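import Mathlib

/-!
# Certificates bounding the index of a subgroup given by words

The cosets are named along a tree; each entry of the table follows from the entries known before it by a relator
read at one coset, or by a word of the subgroup read at the first coset.
-/

set_option autoImplicit false
set_option linter.unusedSectionVars false

namespace Cfsg.Agent.ShortPres.SUGlue.Cert

/-- The letter inverse to a letter. -/
def inv (x : ℕ) : ℕ := if x % 2 = 0 then x + 1 else x - 1

/-- The inverse word. -/
def invWord (w : List ℕ) : List ℕ := (w.reverse).map inv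

/-- The image of a letter. -/
def lt {H : Type*} [Group H] (t : ℕ → H) (x : ℕ) : H := if x % 2 = 0 then t (x / 2) else (t (x / 2))⁻¹

/-- The value of a word, the first letter acting first. -/
def ev {H : Type*} [Group H] (g : ℕ → H) : List ℕ → H
  | [] => 1
  | y :: w => ev g w * g y

/-- Substituting words for generators. -/
def expand (W : List (List ℕ)) : List ℕ → List ℕ
  | [] => []
  | y :: w => (if y % 2 = 0 then W.getD (y / 2) [] else invWord (W.getD (y / 2) [])) ++ expand W w

section eval

variable {H : Type*} [Group H] (t : ℕ → H)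

theorem lt_inv (x : ℕ) : lt t (inv x) = (lt t x)⁻¹ := by
  unfold inv lt
  by_cases h : x % 2 = 0
  · rw [if_pos h, if_pos h, if_neg (by omega), show (x + 1) / 2 = x / 2 by omega]
  · rw [if_neg h, if_neg h, if_pos (by omega), show (x - 1) / 2 = x / 2 by omega, inv_inv]

theorem ev_append (g : ℕ → H) : ∀ u v, ev g (u ++ v) = ev g v * ev g u
  | [], v => by simp [ev]
  | y :: u, v => by simp [ev, ev_append g u v, mul_assoc]

theorem ev_invWord (w : List ℕ) : ev (lt t) (invWord w) = (ev (lt t) w)⁻¹ := by
  induction w with
  | nil => simp [invWord, ev]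
  | cons y w ih =>
    rw [invWord, List.reverse_cons, List.map_append, ev_append]
    change _ * ev (lt t) (invWord w) = _
    rw [ih]
    simp [ev, lt_inv]

/-- The generators of a level. -/
def sub (W : List (List ℕ)) (i : ℕ) : H := ev (lt t) (W.getD i [])

theorem ev_expand (W : List (List ℕ)) : ∀ w, ev (lt t) (expand W w) = ev (lt (sub t W)) w
  | [] => rfl
  | y :: w => by
    rw [expand, ev_append, ev_expand W w]
    simp only [ev]
    congr 1
    unfold lt sub
    split_ifs
    · rfl
    · exact ev_invWord t _

theorem map_ev {H' : Type*} [Group H'] (φ : H →* H') : ∀ w, φ (ev (lt t) w) = ev (lt fun i => φ (t i)) w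
  | [] => map_one φ
  | y :: w => by
    simp only [ev, map_mul, map_ev φ w]
    congr 1
    unfold lt
    split_ifs
    · rfl
    · exact map_inv φ _

end eval

/-- The data of one level. -/
structure Level where
  W : List (List ℕ)
  N : ℕ
  tbl : ℕ
  tree : List ℕ
  R : List (List ℕ)
  S : List (List ℕ)
  steps : List (ℕ × ℕ × ℕ)

/-- The number of letters. -/
def Level.L (C : Level) : ℕ := 2 * C.W.length

/-- The table. -/
def Level.tget (C : Level) (e : ℕ) : ℕ := (C.tbl >>> (8 * e)) % 256

/-- Marking an edge. -/
def mark (K e : ℕ) : ℕ := K ||| (1 <<< e)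

/-- Marking an edge and the opposite one. -/
def Level.markBoth (C : Level) (K e : ℕ) : ℕ :=
  mark (mark K e) (C.tget e * C.L + inv (e % C.L))

/-- The tree is good. -/
def Level.treeOK (C : Level) : ℕ → List ℕ → Bool
  | _, [] => true
  | m, e :: l => decide (e < m * C.L) && Nat.beq (C.tget e) m && decide (inv (e % C.L) < C.L) &&
      Nat.beq (C.tget (m * C.L + inv (e % C.L))) (e / C.L) && C.treeOK (m + 1) l

/-- Walking forwards along known edges. -/
def Level.fwd (C : Level) (K : ℕ) : ℕ → List ℕ → Option ℕ
  | u, [] => some u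
  | u, y :: w => if decide (y < C.L) && K.testBit (u * C.L + y) then C.fwd K (C.tget (u * C.L + y)) w else none

/-- The word and the coset of a step. -/
def Level.source (C : Level) (r : ℕ) : List ℕ :=
  if r < C.R.length then C.R.getD r [] else C.S.getD (r - C.R.length) []

/-- One deduction. -/
def Level.step (C : Level) (K : ℕ) (s : ℕ × ℕ × ℕ) : Option ℕ :=
  if decide (s.1 < C.R.length) || Nat.beq s.2.1 0 then
    match C.fwd K s.2.1 ((C.source s.1).take s.2.2), (C.source s.1).drop s.2.2 with
    | some c, x :: rest =>
      match C.fwd K s.2.1 (invWord rest) with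
      | some d =>
        if decide (x < C.L) && decide (inv x < C.L) && Nat.beq (C.tget (c * C.L + x)) d &&
            Nat.beq (C.tget (d * C.L + inv x)) c then
          some (C.markBoth K (c * C.L + x))
        else none
      | none => none
    | _, _ => none
  else none

/-- All deductions. -/
def Level.run (C : Level) : ℕ → List (ℕ × ℕ × ℕ) → Option ℕ
  | K, [] => some K
  | K, s :: l => match C.step K s with
    | some K' => C.run K' l
    | none => none

/-- The edges of the tree. -/
def Level.start (C : Level) : ℕ := C.tree.foldl C.markBoth 0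

/-- The check of a level. -/
def Level.ok (C : Level) : Bool :=
  C.treeOK 1 C.tree && decide (0 < C.N) &&
    (match C.run C.start C.steps with
    | some K => Nat.beq K (2 ^ (C.N * C.L) - 1)
    | none => false) &&
    (List.range (C.N * C.L)).all fun e => decide (C.tget e < C.N)

section sound

variable {H Q : Type*} [Group H] [MulAction H Q] (C : Level) (t : ℕ → H) (q₀ : Q) (q : ℕ → Q)

/-- An edge means what it says. -/
def Good (e : ℕ) : Prop := lt t (e % C.L) • q (e / C.L) = q (C.tget e)

/-- Every known edge means what it says. -/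
def GoodAll (K : ℕ) : Prop := ∀ e, K.testBit e = true → Good C t q e

theorem good_mark {K e : ℕ} (h : GoodAll C t q K) (he : Good C t q e) : GoodAll C t q (mark K e) := by
  intro e' h'
  rw [mark, Nat.testBit_or, Bool.or_eq_true] at h'
  rcases h' with h' | h'
  · exact h e' h'
  · rw [Nat.one_shiftLeft, Nat.testBit_two_pow, decide_eq_true_eq] at h'
    exact h' ▸ he

theorem good_back {e : ℕ} (hL : inv (e % C.L) < C.L) (he : Good C t q e)
    (hb : C.tget (C.tget e * C.L + inv (e % C.L)) = e / C.L) :
    Good C t q (C.tget e * C.L + inv (e % C.L)) := by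
  unfold Good at he ⊢
  rw [Nat.mul_comm, Nat.mul_add_mod, Nat.mod_eq_of_lt hL, Nat.mul_add_div (by omega), Nat.div_eq_of_lt hL,
    Nat.add_zero, Nat.mul_comm C.L, hb, ← he, lt_inv, inv_smul_smul]

theorem treeOK_spec : ∀ (l : List ℕ) (m : ℕ), 0 < m → C.treeOK m l = true → ∀ q : ℕ → Q,
    ∃ q' : ℕ → Q, (∀ j < m, q' j = q j) ∧
      ∀ e ∈ l, Good C t q' e ∧ inv (e % C.L) < C.L ∧ C.tget (C.tget e * C.L + inv (e % C.L)) = e / C.L
  | [], _, _, _, q => ⟨q, fun _ _ => rfl, by simp⟩
  | e :: l, m, hm, h, q => by
    simp only [Level.treeOK, Bool.and_eq_true, decide_eq_true_eq] at h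
    obtain ⟨⟨⟨⟨he, ht⟩, hi⟩, hb⟩, hl⟩ := h
    have ht' := Nat.eq_of_beq_eq_true ht
    have hb' := Nat.eq_of_beq_eq_true hb
    have hu : e / C.L < m := Nat.div_lt_of_lt_mul (by rwa [Nat.mul_comm])
    obtain ⟨q', h1, h2⟩ := treeOK_spec l (m + 1) (by omega) hl
      (Function.update q m (lt t (e % C.L) • q (e / C.L)))
    have h3 : ∀ j < m, q' j = q j := fun j hj => by
      rw [h1 j (by omega), Function.update_of_ne (by omega)]
    refine ⟨q', h3, List.forall_mem_cons.2 ⟨⟨?_, hi, by rw [ht', hb']⟩, h2⟩⟩
    rw [Good, ht', h3 _ hu, h1 m (by omega), Function.update_self]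

theorem fwd_spec {K : ℕ} (hK : GoodAll C t q K) : ∀ (w : List ℕ) (u c : ℕ), C.fwd K u w = some c →
    ev (lt t) w • q u = q c
  | [], u, c, h => by
    simp only [Level.fwd, Option.some.injEq] at h
    simp [ev, h]
  | y :: w, u, c, h => by
    simp only [Level.fwd] at h
    split_ifs at h with hb
    simp only [Bool.and_eq_true, decide_eq_true_eq] at hb
    have hg := hK _ hb.2
    unfold Good at hg
    rw [Nat.mul_comm u, Nat.mul_add_mod, Nat.mod_eq_of_lt hb.1, Nat.mul_add_div (by omega),
      Nat.div_eq_of_lt hb.1, Nat.add_zero, Nat.mul_comm C.L] at hg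
    rw [ev, mul_smul, hg]
    exact fwd_spec hK w _ c h

theorem step_spec (hR : ∀ w ∈ C.R, ev (lt t) w = 1) (hS : ∀ w ∈ C.S, ev (lt t) w • q 0 = q 0)
    {K K' : ℕ} (hK : GoodAll C t q K) {s : ℕ × ℕ × ℕ} (h : C.step K s = some K') : GoodAll C t q K' := by
  obtain ⟨r, u, pos⟩ := s
  simp only [Level.step] at h
  split_ifs at h with hb
  split at h
  · next c x rest hc hd =>
    split at h
    · next d hd' =>
      split_ifs at h with hcond
      simp only [Bool.and_eq_true, decide_eq_true_eq] at hcond
      obtain ⟨⟨⟨hx, hix⟩, htd⟩, htc⟩ := hcond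
      simp only [Option.some.injEq] at h
      subst h
      have hw : ev (lt t) (C.source r) • q u = q u := by
        unfold Level.source
        split_ifs with hr
        · rw [List.getD_eq_getElem _ _ hr, hR _ (List.getElem_mem hr), one_smul]
        · simp only [Bool.or_eq_true, decide_eq_true_eq, hr, false_or] at hb
          obtain rfl := Nat.eq_of_beq_eq_true hb
          by_cases hr' : r - C.R.length < C.S.length
          · rw [List.getD_eq_getElem _ _ hr']
            exact hS _ (List.getElem_mem hr')
          · rw [List.getD_eq_default _ _ (by omega)]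
            simp [ev]
      rw [← List.take_append_drop pos (C.source r), hd, ev_append, mul_smul, fwd_spec C t q hK _ _ _ hc] at hw
      have hback := fwd_spec C t q hK _ _ _ hd'
      rw [ev_invWord, inv_smul_eq_iff] at hback
      have e1 : lt t x • q c = q d := by
        simp only [ev, mul_smul] at hw
        rw [hback] at hw
        exact MulAction.injective _ hw
      have hg : Good C t q (c * C.L + x) := by
        unfold Good
        rw [Nat.mul_comm c, Nat.mul_add_mod, Nat.mod_eq_of_lt hx, Nat.mul_add_div (by omega),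
          Nat.div_eq_of_lt hx, Nat.add_zero, Nat.mul_comm C.L, Nat.eq_of_beq_eq_true htd]
        exact e1
      refine good_mark C t q (good_mark C t q hK hg) ?_
      have hm : (c * C.L + x) % C.L = x := by rw [Nat.mul_comm, Nat.mul_add_mod, Nat.mod_eq_of_lt hx]
      refine good_back C t q (by rw [hm]; exact hix) hg ?_
      rw [hm, Nat.eq_of_beq_eq_true htd, Nat.eq_of_beq_eq_true htc, Nat.mul_comm c, Nat.mul_add_div (by omega),
        Nat.div_eq_of_lt hx, Nat.add_zero]
    · exact absurd h (by simp)
  · exact absurd h (by simp)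

theorem run_spec (hR : ∀ w ∈ C.R, ev (lt t) w = 1) (hS : ∀ w ∈ C.S, ev (lt t) w • q 0 = q 0) :
    ∀ (l : List (ℕ × ℕ × ℕ)) (K K' : ℕ), GoodAll C t q K → C.run K l = some K' → GoodAll C t q K'
  | [], K, K', hK, h => by
    simp only [Level.run, Option.some.injEq] at h
    exact h ▸ hK
  | s :: l, K, K', hK, h => by
    simp only [Level.run] at h
    split at h
    · next K1 h1 => exact run_spec hR hS l K1 K' (step_spec C t q hR hS hK h1) h
    · exact absurd h (by simp)

end sound

/-- The group of a level has order at most the index times the order of the subgroup. -/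
theorem card_le {H : Type*} [Group H] (C : Level) (h : C.ok = true) (t : ℕ → H) (K : Subgroup H) [Finite K]
    (hR : ∀ w ∈ C.R, ev (lt t) w = 1) (hS : ∀ w ∈ C.S, ev (lt t) w ∈ K) :
    ∃ _ : Finite (Subgroup.closure {y | ∃ i < C.W.length, t i = y}),
      Nat.card (Subgroup.closure {y | ∃ i < C.W.length, t i = y}) ≤ C.N * Nat.card K := by
  classical
  simp only [Level.ok, Bool.and_eq_true, decide_eq_true_eq] at h
  obtain ⟨⟨⟨htree, hN⟩, hrun⟩, htg⟩ := h
  rw [List.all_eq_true] at htg
  have hS' : ∀ w ∈ C.S, ev (lt t) w • ((1 : H) : H ⧸ K) = ((1 : H) : H ⧸ K) := fun w hw => by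
    rw [MulAction.Quotient.smul_coe, smul_eq_mul, mul_one, QuotientGroup.eq, mul_one]
    exact inv_mem (hS w hw)
  obtain ⟨q, hq0, hqt⟩ := treeOK_spec C t C.tree 1 one_pos htree (fun _ => ((1 : H) : H ⧸ K))
  have hstart : GoodAll C t q C.start := by
    have : ∀ l : List ℕ, (∀ e ∈ l, e ∈ C.tree) → ∀ K0, GoodAll C t q K0 →
        GoodAll C t q (l.foldl C.markBoth K0) := by
      intro l
      induction l with
      | nil => exact fun _ K0 h => h
      | cons e l ih =>
        intro hl K0 h0
        obtain ⟨g1, g2, g3⟩ := hqt e (hl e List.mem_cons_self)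
        exact ih (fun e he => hl e (List.mem_cons_of_mem _ he)) _
          (good_mark C t q (good_mark C t q h0 g1) (good_back C t q g2 g1 g3))
    exact this C.tree (fun e he => he) 0 fun e he => by simp at he
  have hall : ∀ e < C.N * C.L, Good C t q e := by
    cases hK : C.run C.start C.steps with
    | none => rw [hK] at hrun; exact absurd hrun (by simp)
    | some K' =>
      rw [hK] at hrun
      intro e he
      refine run_spec C t q hR (fun w hw => ?_) C.steps C.start K' hstart hK e ?_
      · rw [hq0 0 one_pos]; exact hS' w hw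
      · rw [Nat.eq_of_beq_eq_true hrun, Nat.testBit_two_pow_sub_one]
        exact decide_eq_true he
  let Ω : Set (H ⧸ K) := Set.range fun j : Fin C.N => q j
  have hstab : ∀ g ∈ Subgroup.closure {y | ∃ i < C.W.length, t i = y}, ∀ p ∈ Ω, g • p ∈ Ω ∧ g⁻¹ • p ∈ Ω := by
    intro g hg
    induction hg using Subgroup.closure_induction with
    | mem y hy =>
      obtain ⟨i, hi, rfl⟩ := hy
      rintro _ ⟨j, rfl⟩
      have hedge : ∀ x, x < C.L → lt t x • q j ∈ Ω := fun x hx => by
        have hb : j.1 * C.L + x < C.N * C.L := by
          have : (j.1 + 1) * C.L ≤ C.N * C.L := Nat.mul_le_mul_right _ j.2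
          rw [Nat.add_mul] at this
          omega
        have hg := hall _ hb
        unfold Good at hg
        rw [Nat.mul_comm j.1, Nat.mul_add_mod, Nat.mod_eq_of_lt hx, Nat.mul_add_div (by omega),
          Nat.div_eq_of_lt hx, Nat.add_zero, Nat.mul_comm C.L] at hg
        exact ⟨⟨_, of_decide_eq_true (htg _ (List.mem_range.2 hb))⟩, hg.symm⟩
      constructor
      · have := hedge (2 * i) (by unfold Level.L; omega)
        rwa [lt, if_pos (by omega), show 2 * i / 2 = i by omega] at this
      · have := hedge (2 * i + 1) (by unfold Level.L; omega)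
        rwa [lt, if_neg (by omega), show (2 * i + 1) / 2 = i by omega] at this
    | one => intro p hp; simp [hp]
    | mul a b _ _ ha hb =>
      intro p hp
      refine ⟨?_, ?_⟩
      · rw [mul_smul]; exact (ha _ (hb p hp).1).1
      · rw [_root_.mul_inv_rev, mul_smul]; exact (hb _ (ha p hp).2).2
    | inv a _ ha => intro p hp; rw [inv_inv]; exact (ha p hp).symm
  set T := Subgroup.closure {y | ∃ i < C.W.length, t i = y}
  choose rep hrep using fun j : Fin C.N => QuotientGroup.mk_surjective (q j)
  have hcov : ∀ g : T, ∃ p : Fin C.N × K, rep p.1 * p.2 = g := by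
    intro g
    obtain ⟨j, hj⟩ := (hstab g g.2 _ ⟨⟨0, hN⟩, rfl⟩).1
    have hj' : q j = ((g : H) : H ⧸ K) := by
      simpa [hq0 0 one_pos, MulAction.Quotient.smul_coe] using hj
    refine ⟨(j, ⟨(rep j)⁻¹ * g, QuotientGroup.eq.1 ((hrep j).trans hj')⟩), by simp⟩
  choose f hf using hcov
  have hinj : Function.Injective f := fun a b hab => Subtype.ext (by rw [← hf a, ← hf b, hab])
  refine ⟨Finite.of_injective f hinj, ?_⟩
  calc Nat.card T ≤ Nat.card (Fin C.N × K) := Nat.card_le_card_of_injective f hinj
    _ = C.N * Nat.card K := by rw [Nat.card_prod, Nat.card_fin]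

/-- A chain of levels is good: each lists among the next generators the words of its subgroup. -/
def chainOK : List Level → Bool
  | [] => true
  | C :: Cs => C.ok && chainOK Cs && C.S.all fun s =>
      match Cs with
      | [] => decide (s = [])
      | D :: _ => D.W.contains (expand C.W s)

/-- The relators of a chain, in the letters of the whole group. -/
def rels : List Level → List (List ℕ)
  | [] => []
  | C :: Cs => C.R.map (expand C.W) ++ rels Cs

/-- The product of the indices. -/
def order : List Level → ℕ
  | [] => 1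
  | C :: Cs => C.N * order Cs

/-- The group of the first level of a chain. -/
def top {H : Type*} [Group H] (t : ℕ → H) : List Level → Subgroup H
  | [] => ⊥
  | C :: _ => Subgroup.closure {y | ∃ i < C.W.length, sub t C.W i = y}

theorem chain_le {H : Type*} [Group H] (t : ℕ → H) : ∀ Cs : List Level, chainOK Cs = true →
    (∀ w ∈ rels Cs, ev (lt t) w = 1) → ∃ _ : Finite (top t Cs), Nat.card (top t Cs) ≤ order Cs
  | [], _, _ => ⟨(inferInstance : Finite (⊥ : Subgroup H)), by simp [top, order]⟩
  | C :: Cs, h, hR => by
    simp only [chainOK, Bool.and_eq_true, List.all_eq_true] at h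
    obtain ⟨⟨hok, hrest⟩, hS⟩ := h
    obtain ⟨hfin, hcard⟩ := chain_le t Cs hrest fun w hw => hR w (List.mem_append_right _ hw)
    obtain ⟨hf, hc⟩ := card_le C hok (sub t C.W) (top t Cs)
      (fun w hw => by rw [← ev_expand]; exact hR _ (List.mem_append_left _ (List.mem_map_of_mem hw)))
      (fun w hw => by
        have hm := hS w hw
        cases Cs with
        | nil => rw [of_decide_eq_true hm]; exact one_mem _
        | cons D Ds =>
          obtain ⟨i, hi, hiw⟩ := List.getElem_of_mem (List.contains_iff_mem.1 hm)
          refine Subgroup.subset_closure ⟨i, hi, ?_⟩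
          rw [← ev_expand, ← hiw, sub, List.getD_eq_getElem _ _ hi])
    exact ⟨hf, hc.trans (Nat.mul_le_mul_left _ hcard)⟩

end Cfsg.Agent.ShortPres.SUGlue.Cert
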