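import Cfsg.Agent.Lib.ShortPres.SUGlue.Cert

/-!
# Certificate for a presentation of `SU₄(2)`

Written by a script: the six generator matrices by coded columns, the chain of levels, and words.
-/

set_option autoImplicit false
set_option maxRecDepth 100000

namespace Cfsg.Agent.ShortPres.SUGlue.DataTwo

open Cert

/-- The generators and their inverses, by columns. -/
def gens : List (List ℕ) :=
  [[41, 137, 83, 252], [37, 143, 147, 156], [55, 61, 192, 58], [198, 201, 138, 32], [12, 128, 16, 1], [64, 2, 16, 12]]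

/-- Level 0. -/
def level0 : Level where
  W := [[0], [2], [4]]
  N := 27
  tbl := 0x1619190f18171a160f1a0f1812170d0d191a18120c0c1a0f191a11140c14140710100a0b07151611160d060e090913131718060e100a100514160d0c051115150b1208041a1917191306120b09040c0318181411030d171711160a090e031510090b030612150b0a1313030e040f040207051514020506080e130a1202071110070108020f0801080e010d0c0b0a0109010008070506000205040403020100000000
  tree := [
    4, 5, 6, 7, 9, 12, 14, 15, 18, 20, 21, 22, 23, 25, 29, 34, 35, 38, 40, 46, 47, 72, 74, 80, 90, 93]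
  R := [
    [4, 4, 4], [0, 3, 3, 4, 1, 4, 2, 4], [0, 0, 2, 0, 4, 1, 1, 2, 2, 1, 5], [0, 0, 5, 0, 3, 3, 5, 0, 4, 0, 4],
    [0, 0, 2, 2, 1, 4, 3, 0, 4, 2, 0, 2], [0, 0, 0, 0, 0]]
  S := [[0], [2]]
  steps := [
    (0, 0, 1), (0, 3, 1), (0, 5, 1), (0, 7, 1), (5, 1, 2), (6, 0, 0), (7, 0, 0), (1, 0, 5), (2, 0, 7),
    (4, 0, 7), (0, 4, 1), (1, 1, 3), (0, 6, 1), (3, 14, 9), (3, 19, 3), (2, 2, 2), (3, 8, 0), (5, 2, 2),
    (1, 8, 6), (2, 4, 3), (2, 19, 2), (4, 2, 6), (4, 4, 3), (1, 2, 4), (1, 5, 6), (1, 7, 6), (2, 1, 2),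
    (3, 0, 7), (3, 3, 9), (3, 12, 1), (4, 3, 10), (4, 6, 10), (4, 10, 5), (1, 4, 5), (1, 19, 5), (1, 20, 1),
    (2, 12, 7), (2, 13, 3), (2, 15, 1), (3, 6, 8), (3, 7, 4), (3, 9, 4), (3, 13, 7), (3, 15, 6), (3, 17, 2),
    (3, 20, 3), (3, 22, 4), (3, 26, 0), (4, 5, 3), (4, 8, 8), (4, 9, 6), (4, 15, 10), (4, 23, 2), (4, 24, 5),
    (4, 26, 5)]

/-- Level 1. -/
def level1 : Level where
  W := [[0], [2], [2, 2, 2, 2]]
  N := 16
  tbl := 0x80a0c0b070a0e0e0d0d09050d0d0e0e05060b040a0f0b07040c0f080a0c0f08040c0f0b06050307060e0a0f0b040403020309060c0f050907020d09090602030e0d0c0b080a0208070205090801030706050104010100000302000001010000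
  tree := [
    2, 6, 7, 12, 14, 15, 16, 19, 20, 26, 28, 29, 30, 31, 42]
  R := [
    [2, 2, 2, 2, 5], [0, 2, 2, 0, 5], [0, 0, 0, 2, 1, 1, 2, 1, 1, 2], [0, 2, 0, 2, 0, 2, 0, 3, 1, 3]]
  S := [[0], [4]]
  steps := [
    (4, 0, 0), (5, 0, 0), (1, 0, 2), (1, 3, 4), (2, 0, 6), (2, 1, 2), (3, 0, 5), (3, 1, 5), (0, 1, 4),
    (0, 2, 3), (0, 3, 2), (0, 5, 4), (0, 6, 4), (0, 7, 4), (0, 9, 4), (1, 4, 3), (1, 8, 4), (1, 12, 0),
    (3, 4, 7), (3, 13, 0), (3, 14, 9), (0, 13, 4), (0, 14, 4), (1, 2, 2), (1, 7, 1), (1, 9, 0), (1, 10, 4),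
    (2, 3, 4), (2, 6, 0), (2, 8, 8), (3, 6, 5), (0, 11, 4), (0, 15, 4)]

/-- Level 2. -/
def level2 : Level where
  W := [[0], [2, 2, 2, 2]]
  N := 12
  tbl := 0x90a0b0b0b0909080a0b070a07050a060508060903040807080703040603050204060105010004010002020302010000
  tree := [
    2, 3, 4, 9, 12, 14, 22, 23, 28, 33, 38]
  R := [
    [0, 0, 0, 0, 2, 1, 2], [2, 2, 2]]
  S := [[0]]
  steps := [
    (1, 0, 1), (1, 5, 1), (2, 0, 0), (0, 0, 5), (0, 1, 2), (0, 2, 4), (0, 5, 5), (1, 3, 1), (0, 4, 5),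
    (0, 6, 2), (0, 8, 4), (1, 9, 1), (0, 10, 5)]

/-- Level 3. -/
def level3 : Level where
  W := [[0]]
  N := 5
  tbl := 0x3020104040000030201
  tree := [
    0, 1, 2, 5]
  R := [
    [0, 0, 0, 0, 0]]
  S := []
  steps := [
    (0, 0, 2)]

/-- The chain. -/
def chain : List Level := [level0, level1, level2, level3]

/-- The word moving each coordinate to the next. -/
def turn : List ℕ := [3, 1, 5, 1, 5, 3]

/-- Words for the vectors of the first two coordinates. -/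
def two : List (List ℕ) := [
    [], [0, 2, 1, 4, 0, 4, 1], [0, 5, 1, 5, 0, 3, 1], [1, 1, 2, 1, 2, 0], [2, 4, 2, 2, 4, 2, 2],
    [0, 3, 0, 5, 3, 0, 5]]

/-- Words for the vectors of the first three coordinates. -/
def three : List (List ℕ) := [
    [], [1, 5, 1, 4, 1], [0, 5, 0, 4, 0], [2, 4, 1, 2, 4, 0], [0, 3, 5, 3, 5, 3], [3, 5, 2], [3, 4, 2],
    [0, 5, 3, 0, 2, 5], [0, 2, 5, 2, 4, 0], [1, 5, 2, 1, 2, 4], [3, 0, 3, 4, 1], [2, 5, 1, 5, 1, 4],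
    [4, 1, 2, 0, 4], [0, 4, 0, 2, 0, 2], [5, 1, 3, 0, 5], [1, 4, 3, 0, 2], [2, 0, 3, 0, 0, 5],
    [0, 5, 2, 1, 2], [0, 2, 0, 2, 5, 1, 1], [2, 2, 4, 0, 4], [1, 1, 2, 0], [5, 1, 4, 1, 2, 1], [2, 4, 3, 0],
    [1, 1, 3, 5, 1, 3], [5, 0, 2, 1, 5], [5, 0, 4, 0, 4, 3], [0, 3, 5, 2, 4, 2, 2], [0, 4, 2, 1, 1, 2, 2],
    [5, 1, 5, 3, 3], [0, 2, 4, 1, 1, 5], [2, 0, 4, 2, 0, 0], [1, 2, 5, 3], [3, 4, 2, 1, 3, 0, 0],
    [0, 2, 0, 0, 2, 2], [4, 0, 5, 0, 0, 4], [0, 2, 1, 3, 5, 1]]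

end Cfsg.Agent.ShortPres.SUGlue.DataTwo
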