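import Mathlib

/-!
# Two generators of `SU₃(2)` on the first three of four coordinates, and words

Written by a script.
-/

namespace Cfsg.Agent.ShortPres.SUGlue.DataWindow

/-- The generators and their inverses, by columns. -/
def gens : List (List ℕ) :=
  [[53, 38, 41, 64], [29, 53, 62, 64], [22, 31, 55, 64], [43, 25, 37, 64], [1, 4, 16, 64], [1, 4, 16, 64]]

/-- Words for the vectors of the first two coordinates. -/
def two : List (List ℕ) := [[], [0, 3, 0, 2], [0, 3, 3, 0], [0, 0, 0, 2, 2, 0], [0, 2, 2, 0, 0, 0], [0, 0, 0, 0, 0, 0]]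

/-- Words for the vectors of the first three coordinates. -/
def three : List (List ℕ) := [
    [],
    [1, 1],
    [0, 0],
    [0, 0, 3, 3],
    [3, 3],
    [2, 2],
    [0, 2, 1, 2],
    [1, 3],
    [3],
    [2, 1, 3],
    [1, 1, 2],
    [0],
    [0, 0, 2, 0],
    [2, 2, 0],
    [3, 0],
    [0, 3, 1],
    [0, 2, 1, 3],
    [1, 3, 1],
    [2, 0, 2],
    [0, 2, 1, 1],
    [3, 3, 1],
    [0, 2],
    [1, 1, 3],
    [2, 0],
    [0, 0, 2],
    [1],
    [0, 3, 1, 3],
    [0, 0, 0],
    [2, 1],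
    [2],
    [0, 0, 3, 0],
    [0, 2, 1],
    [2, 1, 2],
    [0, 0, 3],
    [2, 0, 3],
    [0, 3]]

end Cfsg.Agent.ShortPres.SUGlue.DataWindow
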