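import Cfsg.Agent.Lib.ShortPres.SUGlue.Large

/-!
# An alternating group and `SU₄(q)` give `SU_n(q)` with few relations, `n ≥ 5` and `q ≥ 3`
-/

set_option autoImplicit false
set_option linter.unusedSectionVars false

namespace Cfsg.Agent.ShortPres.SUGlue

open Equiv Monoid Matrix Cfsg.Agent.ShortPres.Bound Cfsg.Agent.Forms Cfsg.Agent.Classical
  Cfsg.Agent.Classical.Unitary Cfsg.Agent.Phan.Shift Cfsg.Agent.Phan.Glue

universe u

variable {F : Type u} [Field F] [Fintype F] {q n : ℕ} (hF : Fintype.card F = q ^ 2)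

include hF

variable (hq : 2 < q)

include hq

set_option maxHeartbeats 800000 in
/-- The count. -/
theorem pres_block (hn : 5 ≤ n) {a b k kB : ℕ} (hB : PresN (Cfsg.SU 4 F q) b kB) {f : Fin a → alternatingGroup (Fin n)} (hf : Seven.On f k)
    (S : List (alternatingGroup (Fin (n - 2)))) (hS : Subgroup.closure {x | x ∈ S} = ⊤) :
    PresN (Cfsg.SU n F q) (a + b) (k + kB + (2 + 2 * S.length)) := by
  classical
  obtain ⟨m, rfl⟩ : ∃ m, n = m + 1 := ⟨n - 1, by omega⟩
  obtain ⟨x, hx⟩ := two_gen_two hF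
  let iA : alternatingGroup (Fin (m + 1)) →* Cfsg.SU (m + 1) F q := pU (m + 1) F q
  let iB : Cfsg.SU 4 F q →* Cfsg.SU (m + 1) F q := shift 0 4 (m + 1) (by omega)
  let p : Fin 4 → Fin (m + 1) := fun l => ⟨l, by omega⟩
  set cc := Joint.c3 (show 4 ≤ m + 1 by omega) with hccdef
  have hc : cc.1 (p 0) = p 1 ∧ cc.1 (p 1) = p 2 ∧ cc.1 (p 2) = p 0 ∧
      ∀ j : Fin (m + 1), 3 ≤ (j : ℕ) → cc.1 j = j := by
    have d01 : p 0 ≠ p 1 := by simp [p, Fin.ext_iff]
    have d02 : p 0 ≠ p 2 := by simp [p, Fin.ext_iff]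
    have d12 : p 1 ≠ p 2 := by simp [p, Fin.ext_iff]
    show (swap (p 0) (p 1) * swap (p 1) (p 2)) (p 0) = p 1 ∧ (swap (p 0) (p 1) * swap (p 1) (p 2)) (p 1) = p 2 ∧
      (swap (p 0) (p 1) * swap (p 1) (p 2)) (p 2) = p 0 ∧
      ∀ j : Fin (m + 1), 3 ≤ (j : ℕ) → (swap (p 0) (p 1) * swap (p 1) (p 2)) j = j
    refine ⟨?_, ?_, ?_, fun j hj => ?_⟩
    · simp [swap_apply_def, d01, d02]
    · simp [swap_apply_def, d02.symm, d12.symm]
    · simp [swap_apply_def, d01.symm, d12.symm]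
    · have hne : ∀ l : Fin 4, (l : ℕ) < 3 → j ≠ p l := fun l hl e => by
        have := congrArg Fin.val e
        change (j : ℕ) = (l : ℕ) at this
        omega
      rw [Perm.mul_apply, swap_apply_of_ne_of_ne (hne 1 (by decide)) (hne 2 (by decide)),
        swap_apply_of_ne_of_ne (hne 0 (by decide)) (hne 1 (by decide))]
  let e4 : Fin 4 ↪ Fin (m + 1) := ⟨p, fun i j h => by simpa [p, Fin.ext_iff] using h⟩
  let H4 : alternatingGroup (Fin 4) := ⟨swap 0 3 * swap 1 2, Perm.mem_alternatingGroup.2 (by decide)⟩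
  set g0 := Alt.altEmb e4 Joint.G4 with hg0def
  set g1 := Alt.altEmb e4 H4 with hg1def
  have hg0 : g0.1 (p 0) = p 2 ∧ g0.1 (p 1) = p 3 := ⟨Alt.altEmb_apply e4 _ 0, Alt.altEmb_apply e4 _ 1⟩
  have hg1 : g1.1 (p 0) = p 3 ∧ g1.1 (p 1) = p 2 := ⟨Alt.altEmb_apply e4 _ 0, Alt.altEmb_apply e4 _ 1⟩
  let z4 : alternatingGroup (Fin 4) := Joint.c3 (le_refl 4)
  have hz4 : Alt.altEmb e4 z4 = cc := by
    refine Subtype.ext (Equiv.ext fun j => ?_)
    by_cases hj : (j : ℕ) < 4
    · obtain ⟨l, rfl⟩ : ∃ l : Fin 4, p l = j := ⟨⟨j, hj⟩, Fin.ext rfl⟩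
      rw [show (Alt.altEmb e4 z4).1 (p l) = p (z4.1 l) from Alt.altEmb_apply e4 _ l]
      have hz : z4.1 0 = 1 ∧ z4.1 1 = 2 ∧ z4.1 2 = 0 ∧ z4.1 3 = 3 := by decide
      obtain ⟨a0, a1, a2, a3⟩ := hc
      obtain ⟨b0, b1, b2, b3⟩ := hz
      fin_cases l
      · exact (congrArg p b0).trans a0.symm
      · exact (congrArg p b1).trans a1.symm
      · exact (congrArg p b2).trans a2.symm
      · exact (congrArg p b3).trans (a3 _ (by simp [p])).symm
    · rw [Alt.altEmb_fix _ _ (by rintro ⟨w, hw⟩; exact hj (hw ▸ w.2)), hc.2.2.2 j (by omega)]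
  have hP4 : ∀ g, iA (Alt.altEmb e4 g) = iB (pU 4 F q g) := fun g =>
    pU_window (by omega) _ g (fun l => Alt.altEmb_apply e4 g l) fun j hj =>
      Alt.altEmb_fix _ _ (by rintro ⟨w, hw⟩; have := congrArg Fin.val hw; change (w : ℕ) = (j : ℕ) at this; omega)
  let eS : Fin (m + 1 - 2) ↪ Fin (m + 1) :=
    ⟨fun i => ⟨i + 2, by omega⟩, fun i j h => by simpa [Fin.ext_iff] using h⟩
  have heS : ∀ g, (Alt.altEmb eS g).1 (p 0) = p 0 ∧ (Alt.altEmb eS g).1 (p 1) = p 1 := fun g =>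
    ⟨Alt.altEmb_fix _ _ (by rintro ⟨w, hw⟩; have := congrArg Fin.val hw; change w.1 + 2 = 0 at this; omega),
      Alt.altEmb_fix _ _ (by rintro ⟨w, hw⟩; have := congrArg Fin.val hw; change w.1 + 2 = 1 at this; omega)⟩
  set sg := Joint.sig3
  have hP : iA cc = shift 0 3 (m + 1) (by omega) (pU 3 F q sg) := pU_window (by omega) cc sg (fun l => by
    obtain ⟨a0, a1, a2, -⟩ := hc
    obtain ⟨b0, b1, b2⟩ := Joint.sig3_apply
    fin_cases l
    · simp only [sg]; exact a0.trans (Fin.ext (by simp [p, b0]))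
    · simp only [sg]; exact a1.trans (Fin.ext (by simp [p, b1]))
    · simp only [sg]; exact a2.trans (Fin.ext (by simp [p, b2]))) hc.2.2.2
  have hz3 : pU 4 F q z4 = shift 0 3 4 (by omega) (pU 3 F q sg) := by
    refine shift_injective (show 0 + 4 ≤ m + 1 by omega) hF ?_
    show iB _ = iB _
    rw [← hP4, hz4, hP, shift_comp]
  -- facts in the special unitary group
  have hfixG : ∀ s ∈ S, ∀ i, Commute (iA (Alt.altEmb eS s)) (iB (shift 0 2 4 (by omega) (x i))) := fun s _ i => by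
    refine mul_inv_eq_iff_eq_mul.1 ?_
    simp only [iB, shift_comp, Nat.zero_add]
    refine conj_shift _ _ _ (fun l => ?_) _
    fin_cases l
    · exact Fin.ext (congrArg Fin.val (heS s).1 :)
    · exact Fin.ext (congrArg Fin.val (heS s).2 :)
  -- the relators
  let jA : alternatingGroup (Fin (m + 1)) →* Coprod (alternatingGroup (Fin (m + 1))) (Cfsg.SU 4 F q) := Coprod.inl
  let jB : Cfsg.SU 4 F q →* Coprod (alternatingGroup (Fin (m + 1))) (Cfsg.SU 4 F q) := Coprod.inr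
  let X : Fin 2 → Coprod (alternatingGroup (Fin (m + 1))) (Cfsg.SU 4 F q) :=
    fun i => jB (shift 0 2 4 (by omega) (x i))
  let com := fun (u v : Coprod (alternatingGroup (Fin (m + 1))) (Cfsg.SU 4 F q)) => u * v * u⁻¹ * v⁻¹
  let st := S.map fun s => com (jA (Alt.altEmb eS s)) (X 0)
  let st' := S.map fun s => com (jA (Alt.altEmb eS s)) (X 1)
  let E := (jA cc * (jB (pU 4 F q z4))⁻¹) :: (jA g0 * (jB (pU 4 F q Joint.G4))⁻¹) :: (st ++ st')
  refine (PresN.glue hf.presN hB iA iB ?_ E ?_ ?_).mono (by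
    simp only [E, st, st', List.length_cons, List.length_append, List.length_map]
    omega)
  · refine windows_top hF (by omega) (by omega) _ fun j hj => ?_
    rintro _ ⟨b, rfl⟩
    obtain ⟨σ, hσ⟩ := exists_even (n := m + 1) (k := 2) (by omega) (fun l : Fin 2 => ⟨j + l, by omega⟩)
      (fun a b h => Fin.ext (by simpa using congrArg Fin.val h))
    rw [← conj_shift (i := 0) (by omega) hj σ (fun l => by simpa using hσ l) b]
    have e : shift 0 2 (m + 1) (by omega) b = iB (shift 0 2 4 (by omega) b) := by simp only [iB, shift_comp]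
    rw [e]
    exact mul_mem (mul_mem (Subgroup.mem_sup_left ⟨σ, rfl⟩) (Subgroup.mem_sup_right ⟨_, rfl⟩))
      (inv_mem (Subgroup.mem_sup_left ⟨σ, rfl⟩))
  · have hcom : ∀ u v, Commute (Coprod.lift iA iB u) (Coprod.lift iA iB v) →
        Coprod.lift iA iB (com u v) = 1 := fun u v h => by
      simp only [com, map_mul, map_inv]; rw [h.eq]; group
    intro r hr
    simp only [E, List.mem_cons, List.mem_append] at hr
    rcases hr with rfl | rfl | hr | hr
    · rw [map_mul, map_inv, Coprod.lift_apply_inl, Coprod.lift_apply_inr, ← hP4, hz4, mul_inv_cancel]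
    · rw [map_mul, map_inv, Coprod.lift_apply_inl, Coprod.lift_apply_inr, ← hP4, mul_inv_cancel]
    · obtain ⟨s, hs, rfl⟩ := List.mem_map.1 hr
      refine hcom _ _ ?_
      simp only [X, jA, jB, Coprod.lift_apply_inl, Coprod.lift_apply_inr]
      exact hfixG s hs 0
    · obtain ⟨s, hs, rfl⟩ := List.mem_map.1 hr
      refine hcom _ _ ?_
      simp only [X, jA, jB, Coprod.lift_apply_inl, Coprod.lift_apply_inr]
      exact hfixG s hs 1
  intro H _ α β hE
  let u0 : Cfsg.SU 2 F q →* H := β.comp (shift 0 2 4 (by omega))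
  let β3 : Cfsg.SU 3 F q →* H := β.comp (shift 0 3 4 (by omega))
  have hcomE : ∀ u v, com u v ∈ E → Commute (Coprod.lift α β u) (Coprod.lift α β v) := fun u v h => by
    have := hE _ h
    simp only [com, map_mul, map_inv] at this
    exact mul_inv_eq_iff_eq_mul.1 (mul_inv_eq_one.1 this)
  have hX : ∀ i, Coprod.lift α β (X i) = u0 (x i) := fun i => Coprod.lift_apply_inr _ _ _
  have R4 : ∀ g, α (Alt.altEmb e4 g) = β (pU 4 F q g) := by
    have r0 : α cc = β (pU 4 F q z4) := by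
      have := hE _ List.mem_cons_self
      rwa [map_mul, map_inv, Coprod.lift_apply_inl, Coprod.lift_apply_inr, mul_inv_eq_one] at this
    have r1 : α g0 = β (pU 4 F q Joint.G4) := by
      have := hE _ (List.mem_cons_of_mem _ List.mem_cons_self)
      rwa [map_mul, map_inv, Coprod.lift_apply_inl, Coprod.lift_apply_inr, mul_inv_eq_one] at this
    have htop : Subgroup.closure ({z4, Joint.G4} : Set (alternatingGroup (Fin 4))) = ⊤ := by
      rw [eq_top_iff]
      intro g _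
      have key : ∀ g : alternatingGroup (Fin 4), ∃ e : Fin 3 × Fin 2 × Fin 3 × Fin 2,
          z4 ^ (e.1 : ℕ) * Joint.G4 ^ (e.2.1 : ℕ) * z4 ^ (e.2.2.1 : ℕ) * Joint.G4 ^ (e.2.2.2 : ℕ) = g := by
        decide +kernel
      obtain ⟨e, he⟩ := key g
      rw [← he]
      have h0 : z4 ∈ Subgroup.closure ({z4, Joint.G4} : Set (alternatingGroup (Fin 4))) :=
        Subgroup.subset_closure (by simp)
      have h1 : Joint.G4 ∈ Subgroup.closure ({z4, Joint.G4} : Set (alternatingGroup (Fin 4))) :=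
        Subgroup.subset_closure (by simp)
      exact mul_mem (mul_mem (mul_mem (pow_mem h0 _) (pow_mem h1 _)) (pow_mem h0 _)) (pow_mem h1 _)
    intro g
    have : (α.comp (Alt.altEmb e4)) = β.comp (pU 4 F q) := MonoidHom.eq_of_eqOn_dense htop (by
      rintro y (rfl | rfl)
      · show α (Alt.altEmb e4 z4) = _
        rw [hz4]; exact r0
      · exact r1)
    exact DFunLike.congr_fun this g
  have Rcc : α cc = β3 (pU 3 F q sg) := by
    rw [← hz4, R4, hz3]
    rfl
  have Rst : ∀ s ∈ S, ∀ i, Commute (α (Alt.altEmb eS s)) (u0 (x i)) := by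
    intro s hs i
    have := hcomE (jA (Alt.altEmb eS s)) (X i) (by
      refine List.mem_cons_of_mem _ (List.mem_cons_of_mem _ ?_)
      fin_cases i
      · exact List.mem_append_left _ (List.mem_map.2 ⟨s, hs, rfl⟩)
      · exact List.mem_append_right _ (List.mem_map.2 ⟨s, hs, rfl⟩))
    rwa [hX, show Coprod.lift α β (jA (Alt.altEmb eS s)) = α _ from Coprod.lift_apply_inl _ _ _] at this
  let cj : alternatingGroup (Fin (m + 1)) → (Cfsg.SU 2 F q →* H) :=
    fun σ => (MulAut.conj (α σ)).toMonoidHom.comp u0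
  have cj_def : ∀ σ b, cj σ b = α σ * u0 b * (α σ)⁻¹ := fun σ b => rfl
  have hstab : ∀ g : alternatingGroup (Fin (m + 1)), g.1 (p 0) = p 0 → g.1 (p 1) = p 1 → ∀ b,
      Commute (α g) (u0 b) := by
    intro g h0 h1
    obtain ⟨s, rfl⟩ := Linear.mem_range_altEmb eS g fun y hy => by
      rcases (show y = p 0 ∨ y = p 1 by
        by_contra h
        push Not at h
        refine hy ⟨⟨y.1 - 2, by omega⟩, Fin.ext ?_⟩
        have h0 : (y : ℕ) ≠ 0 := fun e => h.1 (Fin.ext e)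
        have h1 : (y : ℕ) ≠ 1 := fun e => h.2 (Fin.ext e)
        show y.1 - 2 + 2 = y.1
        omega) with rfl | rfl
      · exact h0
      · exact h1
    intro b
    have hall : ∀ i, Commute (α (Alt.altEmb eS s)) (u0 (x i)) := fun i => by
      have : Subgroup.closure {y | y ∈ S} ≤
          (Subgroup.centralizer ({u0 (x i)} : Set H)).comap (α.comp (Alt.altEmb eS)) := by
        rw [Subgroup.closure_le]
        exact fun s' hs' => Subgroup.mem_centralizer_singleton_iff.2 (Rst s' hs' i).eq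
      exact Subgroup.mem_centralizer_singleton_iff.1 (this (hS ▸ Subgroup.mem_top s))
    have : Subgroup.closure (Set.range x) ≤ (Subgroup.centralizer ({α (Alt.altEmb eS s)} : Set H)).comap u0 := by
      rw [Subgroup.closure_le]
      rintro _ ⟨i, rfl⟩
      exact Subgroup.mem_centralizer_singleton_iff.2 (hall i).symm.eq
    exact (show Commute (u0 b) (α (Alt.altEmb eS s)) from
      Subgroup.mem_centralizer_singleton_iff.1 (this (hx ▸ Subgroup.mem_top b))).symm
  have cj_eq : ∀ σ σ' : alternatingGroup (Fin (m + 1)), σ.1 (p 0) = σ'.1 (p 0) → σ.1 (p 1) = σ'.1 (p 1) →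
      ∀ b, cj σ b = cj σ' b := by
    intro σ σ' h0 h1 b
    have h := hstab (σ'⁻¹ * σ) (by show σ'.1⁻¹ (σ.1 (p 0)) = p 0; rw [h0]; simp)
      (by show σ'.1⁻¹ (σ.1 (p 1)) = p 1; rw [h1]; simp) b
    have e : α σ = α σ' * α (σ'⁻¹ * σ) := by rw [← map_mul, mul_inv_cancel_left]
    rw [cj_def, cj_def, e, _root_.mul_inv_rev, show α σ' * α (σ'⁻¹ * σ) * u0 b * ((α (σ'⁻¹ * σ))⁻¹ * (α σ')⁻¹) =
      α σ' * (α (σ'⁻¹ * σ) * u0 b) * (α (σ'⁻¹ * σ))⁻¹ * (α σ')⁻¹ by group, h.eq]
    group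
  have hex : ∀ i, ∃ σ : alternatingGroup (Fin (m + 1)), ∀ (h : i + 2 ≤ m + 1) (l : Fin 2),
      σ.1 ⟨l, by omega⟩ = ⟨i + l, by omega⟩ := by
    intro i
    by_cases h : i + 2 ≤ m + 1
    · obtain ⟨σ, hσ⟩ := exists_even (n := m + 1) (k := 2) (by omega) (fun l : Fin 2 => ⟨i + l, by omega⟩)
        (fun a b h => Fin.ext (by simpa using congrArg Fin.val h))
      exact ⟨σ, fun _ => hσ⟩
    · exact ⟨1, fun h' => absurd h' h⟩
  choose σw hσw using hex
  let uw : ℕ → (Cfsg.SU 2 F q →* H) := fun i => cj (σw i)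
  have uw_eq : ∀ i (hi : i + 2 ≤ m + 1) (σ : alternatingGroup (Fin (m + 1))),
      (σ.1 (p 0) : ℕ) = i → (σ.1 (p 1) : ℕ) = i + 1 → ∀ b, uw i b = cj σ b := fun i hi σ h0 h1 =>
    cj_eq _ _ (Fin.ext (by rw [h0]; exact (congrArg Fin.val (hσw i hi 0)).trans (by simp)))
      (Fin.ext (by rw [h1]; exact (congrArg Fin.val (hσw i hi 1)).trans (by simp)))
  have hsh0 : ∀ b, β3 (shift 0 2 3 (by omega) b) = u0 b := fun b => by
    show β _ = β _
    rw [shift_comp]
  have hshift1 : ∀ b, β3 (shift 1 2 3 (by omega) b) = cj cc b := by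
    intro b
    rw [cj_def, Rcc, ← hsh0]
    show _ = β3 _ * β3 _ * (β3 _)⁻¹
    rw [← map_inv, ← map_mul, ← map_mul]
    congr 1
    refine (conj_shift (i := 0) _ _ sg (fun l => ?_) b).symm
    fin_cases l
    · exact Joint.sig3_apply.1
    · exact Joint.sig3_apply.2.1
  have hbase : ∀ h : alternatingGroup (Fin 4),
      (∀ l : Fin 2, 2 ≤ (h.1 ⟨l, by omega⟩ : ℕ)) → ∀ a b, Commute (u0 a) (cj (Alt.altEmb e4 h) b) := by
    intro h hl a b
    obtain ⟨c, hc'⟩ := conj_shift_mem hF (i := 0) (i' := 2) (k := 2) (n := 4) (by omega) (by omega) h (fun l => by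
      refine ⟨?_, Fin.is_lt _⟩
      rw [show (⟨0 + (l : ℕ), by omega⟩ : Fin 4) = ⟨(l : ℕ), by omega⟩ from Fin.ext (Nat.zero_add _)]
      exact hl l) b
    rw [cj_def, R4]
    show Commute (β _) (β _ * β _ * (β _)⁻¹)
    rw [← map_inv, ← map_mul, ← map_mul, ← hc']
    exact Commute.map (shift_commute _ _ (by omega) a c) β
  have hshift2 : ∀ b, β (shift 2 2 4 (by omega) b) = cj g0 b := by
    intro b
    rw [cj_def, R4]
    show _ = β _ * β _ * (β _)⁻¹
    rw [← map_inv, ← map_mul, ← map_mul]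
    congr 1
    refine (conj_shift (i := 0) _ _ Joint.G4 (fun l => ?_) b).symm
    fin_cases l <;> simp [Joint.G4, swap_apply_def, Fin.ext_iff]
  have hsend : ∀ i, i + 4 ≤ m + 1 → ∃ σ : alternatingGroup (Fin (m + 1)), ∀ l : Fin 4, (σ.1 (p l) : ℕ) = i + l := by
    intro i hi
    rcases Nat.eq_zero_or_pos i with rfl | hi0
    · exact ⟨1, fun l => by simp [p]⟩
    by_cases h6 : 4 + 2 ≤ m + 1
    · obtain ⟨σ, hσ⟩ := exists_even (n := m + 1) (k := 4) h6 (fun l : Fin 4 => ⟨i + l, by omega⟩)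
        (fun a b h => Fin.ext (by simpa using congrArg Fin.val h))
      exact ⟨σ, fun l => congrArg Fin.val (hσ l)⟩
    · obtain rfl : m = 4 := by omega
      obtain rfl : i = 1 := by omega
      refine ⟨⟨finRotate 5, Perm.mem_alternatingGroup.2 (by rw [sign_finRotate]; rfl)⟩, fun l => ?_⟩
      fin_cases l <;> rfl
  have hψ : ∀ i (hi : i + 3 ≤ m + 1), ∃ σ : alternatingGroup (Fin (m + 1)),
      (∀ l : Fin 3, σ.1 ⟨l, by omega⟩ = ⟨i + l, by omega⟩) ∧
      (∀ b, α σ * β3 (shift 0 2 3 (by omega) b) * (α σ)⁻¹ = uw i b) ∧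
      ∀ b, α σ * β3 (shift 1 2 3 (by omega) b) * (α σ)⁻¹ = uw (i + 1) b := by
    intro i hi
    obtain ⟨σ, hσ⟩ := exists_even (n := m + 1) (k := 3) (by omega) (fun l : Fin 3 => ⟨i + l, by omega⟩)
      (fun a b h => Fin.ext (by simpa using congrArg Fin.val h))
    refine ⟨σ, hσ, fun b => ?_, fun b => ?_⟩
    · rw [hsh0]
      exact (uw_eq i (by omega) σ (congrArg Fin.val (hσ 0)) (congrArg Fin.val (hσ 1)) b).symm
    · rw [uw_eq (i + 1) (by omega) (σ * cc) (by
          show ((σ.1 (cc.1 (p 0)) : Fin (m + 1)) : ℕ) = _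
          rw [hc.1]; exact congrArg Fin.val (hσ 1)) (by
          show ((σ.1 (cc.1 (p 1)) : Fin (m + 1)) : ℕ) = _
          rw [hc.2.1]; exact congrArg Fin.val (hσ 2)) b, hshift1, cj_def, cj_def, map_mul]
      group
  obtain ⟨Φ, hΦ⟩ := glue_four (G := H) hF hq m (by omega) uw (fun i hi => by
      obtain ⟨σ, hσ⟩ := hsend i (by omega)
      refine ⟨(MulAut.conj (α σ)).toMonoidHom.comp β, fun l hl b => ?_⟩
      show α σ * β _ * (α σ)⁻¹ = _
      rcases (show l = 0 ∨ l = 1 ∨ l = 2 by omega) with rfl | rfl | rfl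
      · exact (uw_eq (i + 0) (by omega) σ (hσ 0) (hσ 1) b).symm
      · rw [uw_eq (i + 1) (by omega) (σ * cc) (by
            show (σ.1 (cc.1 (p 0)) : ℕ) = _
            rw [hc.1]; exact hσ 1) (by
            show (σ.1 (cc.1 (p 1)) : ℕ) = _
            rw [hc.2.1]; exact hσ 2) b,
          show β (shift 1 2 4 hl b) = β3 (shift 1 2 3 (by omega) b) by show _ = β _; rw [shift_comp],
          hshift1, cj_def, cj_def, map_mul]
        group
      · rw [uw_eq (i + 2) (by omega) (σ * g0) (by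
            show (σ.1 (g0.1 (p 0)) : ℕ) = _
            rw [hg0.1]; exact hσ 2) (by
            show (σ.1 (g0.1 (p 1)) : ℕ) = _
            rw [hg0.2]; exact hσ 3) b,
          hshift2, cj_def, cj_def, map_mul]
        group) (by
    intro i j hij hj a b
    have h0 : ∀ a b, Commute (u0 a) (cj g0 b) := hbase _ fun l => by fin_cases l <;> simp [Joint.G4, swap_apply_def]
    have h1 : ∀ a b, Commute (u0 a) (cj g1 b) := hbase _ fun l => by fin_cases l <;> simp [H4, swap_apply_def]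
    have finish : ∀ (σ g : alternatingGroup (Fin (m + 1))), (∀ a b, Commute (u0 a) (cj g b)) →
        (σ.1 (p 0) : ℕ) = i → (σ.1 (p 1) : ℕ) = i + 1 → (σ.1 (g.1 (p 0)) : ℕ) = j →
        (σ.1 (g.1 (p 1)) : ℕ) = j + 1 → uw i a * uw j b = uw j b * uw i a := by
      intro σ g hg s0 s1 s2 s3
      rw [uw_eq i (by omega) σ s0 s1, uw_eq j (by omega) (σ * g) s2 s3]
      have := (hg a b).map (MulAut.conj (α σ)).toMonoidHom
      simp only [MulEquiv.coe_toMonoidHom, MulAut.conj_apply, cj_def] at this ⊢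
      rw [show α σ * (α g * u0 b * (α g)⁻¹) * (α σ)⁻¹ = α (σ * g) * u0 b * (α (σ * g))⁻¹ by
        rw [map_mul]; group] at this
      exact this.eq
    by_cases h6 : 6 ≤ m + 1
    · obtain ⟨σ, hσ⟩ := exists_even (n := m + 1) (k := 4) (by omega)
        ![⟨i, by omega⟩, ⟨i + 1, by omega⟩, ⟨j, by omega⟩, ⟨j + 1, by omega⟩]
        (Joint.inj_four (by simp) (by simp; omega) (by simp; omega) (by simp; omega) (by simp; omega) (by simp))
      exact finish σ g0 h0 (congrArg Fin.val (hσ 0)) (congrArg Fin.val (hσ 1))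
        (by rw [hg0.1]; exact congrArg Fin.val (hσ 2)) (by rw [hg0.2]; exact congrArg Fin.val (hσ 3))
    · obtain ⟨σ, s0, s1, h⟩ := Joint.exists_four' (α := Fin (m + 1)) (a := p 0) (b := p 1) (c := p 2) (d := p 3)
        (x := ⟨i, by omega⟩) (y := ⟨i + 1, by omega⟩) (w := ⟨j, by omega⟩) (v := ⟨j + 1, by omega⟩)
        (by simp [p, Fin.ext_iff]) (by simp [p, Fin.ext_iff]) (by simp [p, Fin.ext_iff]) (by simp [p, Fin.ext_iff])
        (by simp [p, Fin.ext_iff]) (by simp [p, Fin.ext_iff]) (by simp) (by simp; omega) (by simp; omega)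
        (by simp; omega) (by simp; omega) (by simp)
      rcases h with ⟨s2, s3⟩ | ⟨s2, s3⟩
      · exact finish σ g0 h0 (congrArg Fin.val s0) (congrArg Fin.val s1)
          (by rw [hg0.1, s2]) (by rw [hg0.2, s3])
      · exact finish σ g1 h1 (congrArg Fin.val s0) (congrArg Fin.val s1)
          (by rw [hg1.1, s3]) (by rw [hg1.2, s2]))
  refine ⟨Φ, ?_, ?_⟩
  · refine MonoidHom.eq_of_eqOn_top fun g _ => ?_
    suffices h : (Φ.comp iA).eqLocus α = ⊤ from (h ▸ Subgroup.mem_top g : g ∈ (Φ.comp iA).eqLocus α)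
    refine eq_top_of_win (by omega) _ fun i hi => ?_
    obtain ⟨σ, hσ, h0, h1⟩ := hψ i hi
    have hsh : Φ.comp (shift i 3 (m + 1) hi) = (MulAut.conj (α σ)).toMonoidHom.comp β3 := by
      refine hom_ext hF hq (by omega) fun l hl b => ?_
      rw [MonoidHom.comp_apply, shift_comp, hΦ]
      rcases (show l = 0 ∨ l = 1 by omega) with rfl | rfl
      · exact (h0 b).symm
      · exact (h1 b).symm
    refine ⟨σ * cc * σ⁻¹, ?_, ?_⟩
    · show Φ (iA (σ * cc * σ⁻¹)) = α (σ * cc * σ⁻¹)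
      rw [map_mul iA, map_mul iA, map_inv iA, hP]
      show Φ (pU (m + 1) F q σ * shift 0 3 (m + 1) _ (pU 3 F q sg) * (pU (m + 1) F q σ)⁻¹) = _
      rw [conj_shift (i := 0) _ hi σ (fun l => by simpa using hσ l), ← MonoidHom.comp_apply Φ, hsh,
        map_mul α, map_mul α, map_inv α, Rcc]
      rfl
    · have hinv : ∀ l : Fin 3, σ⁻¹.1 ⟨i + l, by omega⟩ = ⟨l, by omega⟩ := fun l => by
        show σ.1⁻¹ _ = _
        rw [← hσ l]; simp
      refine ⟨?_, ?_, ?_, fun j hj => ?_⟩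
      · show σ.1 (cc.1 (σ⁻¹.1 _)) = _
        rw [show (⟨i, by omega⟩ : Fin (m + 1)) = ⟨i + ((0 : Fin 3) : ℕ), by simp; omega⟩ from Fin.ext (by simp),
          hinv 0]
        exact (congrArg σ.1 hc.1).trans (hσ 1)
      · show σ.1 (cc.1 (σ⁻¹.1 _)) = _
        refine (congrArg (fun y => σ.1 (cc.1 y)) (hinv 1)).trans ?_
        exact (congrArg σ.1 hc.2.1).trans (hσ 2)
      · show σ.1 (cc.1 (σ⁻¹.1 _)) = _
        refine (congrArg (fun y => σ.1 (cc.1 y)) (hinv 2)).trans ?_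
        exact (congrArg σ.1 hc.2.2.1).trans ((hσ 0).trans (Fin.ext (by simp)))
      · show σ.1 (cc.1 (σ.1⁻¹ j)) = j
        have hy : 3 ≤ ((σ.1⁻¹ j : Fin (m + 1)) : ℕ) := by
          by_contra h
          have hy' : σ.1 (σ.1⁻¹ j) = j := σ.1.apply_symm_apply j
          generalize σ.1⁻¹ j = y at h hy'
          have e := (hσ ⟨(y : ℕ), by omega⟩).symm.trans hy'
          have := congrArg Fin.val e
          change i + (y : ℕ) = (j : ℕ) at this
          omega
        rw [hc.2.2.2 _ hy]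
        simp
  · refine hom_ext hF hq (by omega) fun l hl b => ?_
    show Φ (shift 0 4 (m + 1) _ (shift l 2 4 hl b)) = β (shift l 2 4 hl b)
    rw [shift_comp, hΦ]
    rcases (show l = 0 ∨ l = 1 ∨ l = 2 by omega) with rfl | rfl | rfl
    · rw [uw_eq (0 + 0) (by omega) 1 (by simp [p]) (by simp [p]) b, cj_def, map_one, one_mul, inv_one, mul_one]
      rfl
    · rw [uw_eq (0 + 1) (by omega) cc (by rw [hc.1]; simp [p]) (by rw [hc.2.1]; simp [p]) b, ← hshift1]
      show β _ = _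
      rw [shift_comp]
    · rw [uw_eq (0 + 2) (by omega) g0 (by rw [hg0.1]; simp [p]) (by rw [hg0.2]; simp [p]) b, ← hshift2]

end Cfsg.Agent.ShortPres.SUGlue
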