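import Cfsg.Agent.Lib.Phan.Shift
import Cfsg.Agent.Lib.ShortPres.Joint.Main

/-!
# Permutation matrices in the special unitary group of the standard form
-/

set_option autoImplicit false
set_option linter.unusedSectionVars false

namespace Cfsg.Agent.ShortPres.SUGlue

open Equiv Matrix Cfsg.Agent.Forms Cfsg.Agent.Classical Cfsg.Agent.Classical.Unitary
open Cfsg.Agent.Phan.Shift

universe u

variable {F : Type u} [Field F] {q n : ℕ}

theorem permMat_mulVec (σ : Perm (Fin n)) (x : Fin n → F) :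
    (σ⁻¹).permMatrix F *ᵥ x = x ∘ (⇑σ⁻¹ : Fin n → Fin n) :=
  Matrix.permMatrix_mulVec _

/-- The permutation matrices of even permutations. -/
noncomputable def pU (n : ℕ) (F : Type u) [Field F] [Fintype F] (q : ℕ) : alternatingGroup (Fin n) →* Cfsg.SU n F q where
  toFun σ := suMk ((σ.1⁻¹).permMatrix F)
    (by
      rw [Matrix.det_permutation, map_inv, Perm.mem_alternatingGroup.1 σ.2]
      simp)
    (fun u v => by
      rw [permMat_mulVec, permMat_mulVec]
      exact Equiv.sum_comp σ.1⁻¹ (fun i => u i * v i ^ q))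
  map_one' := SU_ext fun x => by
    rw [suMk_mulVec, permMat_mulVec, mat_one, Matrix.one_mulVec]
    funext j
    simp
  map_mul' σ τ := SU_ext fun x => by
    rw [suMk_mulVec, permMat_mulVec, mul_mulVec, suMk_mulVec, suMk_mulVec, permMat_mulVec, permMat_mulVec]
    funext j
    simp

variable [Fintype F]

theorem pU_mulVec (σ : alternatingGroup (Fin n)) (x : Fin n → F) (j : Fin n) :
    (mat (pU n F q σ) *ᵥ x) j = x (σ.1⁻¹ j) := by
  show ((σ.1⁻¹).permMatrix F *ᵥ x) j = _
  rw [permMat_mulVec]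
  rfl

theorem pU_single (σ : alternatingGroup (Fin n)) (j : Fin n) :
    mat (pU n F q σ) *ᵥ (Pi.single j 1 : Fin n → F) = Pi.single (σ.1 j) 1 := by
  funext l
  rw [pU_mulVec]
  simp only [Pi.single_apply, Perm.inv_eq_iff_eq]

/-- Conjugating a window by a permutation which moves it to another window. -/
theorem conj_shift {i i' k : ℕ} (h : i + k ≤ n) (h' : i' + k ≤ n) (σ : alternatingGroup (Fin n))
    (hσ : ∀ l : Fin k, σ.1 ⟨i + l, by omega⟩ = ⟨i' + l, by omega⟩) (g : Cfsg.SU k F q) :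
    pU n F q σ * shift i k n h g * (pU n F q σ)⁻¹ = shift i' k n h' g := by
  rw [mul_inv_eq_iff_eq_mul]
  refine SU_ext fun x => ?_
  funext j
  have hsymm : ∀ l : Fin k, σ.1⁻¹ ⟨i' + l, by omega⟩ = ⟨i + l, by omega⟩ := fun l => by
    rw [← hσ l]; simp
  rw [mul_mulVec, mul_mulVec, pU_mulVec, shift_apply, shift_apply]
  by_cases hj : i' ≤ (j : ℕ) ∧ (j : ℕ) < i' + k
  · have e : σ.1⁻¹ j = ⟨i + (j - i'), by omega⟩ := by
      have := hsymm ⟨j - i', by omega⟩
      rwa [show (⟨i' + (j - i'), by omega⟩ : Fin n) = j from Fin.ext (by simp; omega)] at this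
    rw [e, dif_pos hj, dif_pos (by simp; omega)]
    have el : (fun l : Fin k => (mat (pU n F q σ) *ᵥ x) ⟨i' + l, by omega⟩) = fun l : Fin k => x ⟨i + l, by omega⟩ := by
      funext l; rw [pU_mulVec, hsymm]
    rw [el]
    congr 1
    exact Fin.ext (by simp)
  · have hn : ¬ (i ≤ ((σ.1⁻¹ j : Fin n) : ℕ) ∧ ((σ.1⁻¹ j : Fin n) : ℕ) < i + k) := by
      intro hc
      apply hj
      have hy : σ.1 (σ.1⁻¹ j) = j := σ.1.apply_symm_apply j
      generalize σ.1⁻¹ j = y at hc hy
      have e := hσ ⟨(y : ℕ) - i, by omega⟩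
      have ey : (⟨i + ((y : ℕ) - i), by omega⟩ : Fin n) = y := Fin.ext (by show i + ((y : ℕ) - i) = y; omega)
      dsimp only at e
      rw [ey, hy] at e
      have : (j : ℕ) = i' + ((y : ℕ) - i) := congrArg Fin.val e
      omega
    rw [dif_neg hn, dif_neg hj, pU_mulVec]

/-- Conjugating a window by a permutation which moves its points into another window. -/
theorem conj_shift_mem (hF : Fintype.card F = q ^ 2) {i i' k : ℕ} (h : i + k ≤ n) (h' : i' + k ≤ n)
    (σ : alternatingGroup (Fin n))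
    (hσ : ∀ l : Fin k, i' ≤ (σ.1 ⟨i + l, by omega⟩ : ℕ) ∧ (σ.1 ⟨i + l, by omega⟩ : ℕ) < i' + k)
    (g : Cfsg.SU k F q) :
    pU n F q σ * shift i k n h g * (pU n F q σ)⁻¹ ∈ (shift i' k n h').range := by
  rw [mem_range hF]
  intro j hj
  have hy : ¬ (i ≤ ((σ.1⁻¹ j : Fin n) : ℕ) ∧ ((σ.1⁻¹ j : Fin n) : ℕ) < i + k) := by
    intro hc
    apply hj
    have ey : σ.1 (σ.1⁻¹ j) = j := σ.1.apply_symm_apply j
    generalize σ.1⁻¹ j = y at hc ey
    have := hσ ⟨(y : ℕ) - i, by omega⟩
    have e : (⟨i + ((y : ℕ) - i), by omega⟩ : Fin n) = y := Fin.ext (Nat.add_sub_cancel' hc.1)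
    dsimp only at this
    rwa [e, ey] at this
  rw [← map_inv, mul_mulVec, mul_mulVec, pU_single]
  show mat _ *ᵥ (mat _ *ᵥ (Pi.single (σ⁻¹.1 j) 1 : Fin n → F)) = _
  rw [show σ⁻¹.1 j = σ.1⁻¹ j from rfl, shift_outside h g hy, pU_single,
    show σ.1 (σ.1⁻¹ j) = j from σ.1.apply_symm_apply j]

/-- A permutation of the first coordinates is the window of its matrix. -/
theorem pU_window {b : ℕ} (h : 0 + b ≤ n) (σ : alternatingGroup (Fin n)) (τ : alternatingGroup (Fin b))
    (hin : ∀ l : Fin b, σ.1 ⟨l, by omega⟩ = ⟨τ.1 l, by omega⟩)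
    (hout : ∀ j : Fin n, b ≤ (j : ℕ) → σ.1 j = j) :
    pU n F q σ = shift 0 b n h (pU b F q τ) := by
  refine SU_ext fun x => funext fun j => ?_
  rw [pU_mulVec, shift_apply]
  by_cases hj : (j : ℕ) < b
  · rw [dif_pos ⟨Nat.zero_le _, by omega⟩, pU_mulVec]
    congr 1
    rw [Perm.inv_eq_iff_eq]
    have := hin (τ.1⁻¹ ⟨j, hj⟩)
    simp at this
    refine Eq.trans ?_ ((congrArg σ.1 (Fin.ext (by simp))).trans this).symm
    exact Fin.ext rfl
  · rw [dif_neg (by omega)]
    congr 1
    rw [Perm.inv_eq_iff_eq]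
    exact (hout j (by omega)).symm

/-- An even permutation with prescribed values on at most `n - 2` first points. -/
theorem exists_even {k : ℕ} (hk : k + 2 ≤ n) (v : Fin k → Fin n) (hv : Function.Injective v) :
    ∃ σ : alternatingGroup (Fin n), ∀ l : Fin k, σ.1 ⟨l, by omega⟩ = v l := by
  obtain ⟨π, hπ⟩ := Alt.exists_send (fun l : Fin k => (⟨l, by omega⟩ : Fin n)) v
    (fun a b h => Fin.ext (congrArg Fin.val h :)) hv
  rcases Int.units_eq_one_or (Perm.sign π) with e | e
  · exact ⟨⟨π, Perm.mem_alternatingGroup.2 e⟩, hπ⟩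
  · refine ⟨⟨π * swap ⟨k, by omega⟩ ⟨k + 1, by omega⟩,
      Perm.mem_alternatingGroup.2 (by rw [map_mul, e, Perm.sign_swap (by simp [Fin.ext_iff])]; decide)⟩, fun l => ?_⟩
    show π (swap _ _ _) = _
    rw [swap_apply_of_ne_of_ne (by simp [Fin.ext_iff]; omega) (by simp [Fin.ext_iff]; omega)]
    exact hπ l

/-- The three-cycle on consecutive points starting at `i`. -/
def IsWin (i : ℕ) (hi : i + 3 ≤ n) (g : alternatingGroup (Fin n)) : Prop :=
  g.1 ⟨i, by omega⟩ = ⟨i + 1, by omega⟩ ∧ g.1 ⟨i + 1, by omega⟩ = ⟨i + 2, by omega⟩ ∧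
    g.1 ⟨i + 2, by omega⟩ = ⟨i, by omega⟩ ∧ ∀ j : Fin n, ((j : ℕ) < i ∨ i + 3 ≤ (j : ℕ)) → g.1 j = j

/-- The consecutive three-cycles generate. -/
theorem eq_top_of_win (hn : 3 ≤ n) (K : Subgroup (alternatingGroup (Fin n)))
    (hK : ∀ i (hi : i + 3 ≤ n), ∃ g ∈ K, IsWin i hi g) : K = ⊤ := by
  have trans : ∀ m, 3 ≤ m → ∀ hm : m ≤ n, ∀ x : Fin n, (x : ℕ) < m →
      ∃ k ∈ K, k.1 ⟨m - 1, by omega⟩ = x ∧ ∀ j : Fin n, m ≤ (j : ℕ) → k.1 j = j := by
    intro m h3
    induction m, h3 using Nat.le_induction with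
    | base =>
      intro hm x hx
      obtain ⟨g, hg, g0, g1, g2, gout⟩ := hK 0 (by omega)
      have hg' : ∀ j : Fin n, 3 ≤ (j : ℕ) → g.1 j = j := fun j hj => gout j (Or.inr (by omega))
      rcases (show (x : ℕ) = 2 ∨ (x : ℕ) = 0 ∨ (x : ℕ) = 1 by omega) with h | h | h
      · exact ⟨1, one_mem K, Fin.ext (by simp; omega), fun j _ => rfl⟩
      · exact ⟨g, hg, g2.trans (Fin.ext (by simp; omega)), hg'⟩
      · refine ⟨g * g, mul_mem hg hg, ?_, fun j hj => ?_⟩
        · show g.1 (g.1 _) = x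
          rw [show (⟨3 - 1, by omega⟩ : Fin n) = ⟨0 + 2, by omega⟩ from rfl, g2, g0]
          exact Fin.ext (by simp; omega)
        · show g.1 (g.1 j) = j
          rw [hg' j hj, hg' j hj]
    | succ m h3 ih =>
      intro hm x hx
      obtain ⟨g, hg, g0, g1, g2, gout⟩ := hK (m - 2) (by omega)
      by_cases hxm : (x : ℕ) = m
      · exact ⟨1, one_mem K, Fin.ext (by simp; omega), fun j _ => rfl⟩
      obtain ⟨k, hk, k1, k2⟩ := ih (by omega) x (by omega)
      refine ⟨k * (g * g), mul_mem hk (mul_mem hg hg), ?_, fun j hj => ?_⟩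
      · show k.1 (g.1 (g.1 _)) = x
        rw [show (⟨m + 1 - 1, by omega⟩ : Fin n) = ⟨m - 2 + 2, by omega⟩ from Fin.ext (by simp; omega), g2, g0,
          ← k1]
        congr 1
        exact Fin.ext (by simp; omega)
      · show k.1 (g.1 (g.1 j)) = j
        rw [gout j (Or.inr (by omega)), gout j (Or.inr (by omega)), k2 j (by omega)]
  have key : ∀ m, m ≤ n → ∀ g : alternatingGroup (Fin n), (∀ j : Fin n, m ≤ (j : ℕ) → g.1 j = j) → g ∈ K := by
    intro m
    induction m with
    | zero =>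
      intro _ g hg
      rw [show g = 1 from Subtype.ext (Equiv.ext fun j => hg j (Nat.zero_le _))]
      exact one_mem K
    | succ m ih =>
      intro hm g hg
      by_cases h2 : m + 1 ≤ 2
      · rw [show g = 1 from ?_]
        · exact one_mem K
        by_contra hne
        have hne' : g.1 ≠ 1 := fun h => hne (Subtype.ext h)
        have hsub : g.1.support ⊆ ({(⟨0, by omega⟩ : Fin n), ⟨1, by omega⟩} : Finset (Fin n)) := by
          intro j hj
          rw [Perm.mem_support] at hj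
          have : (j : ℕ) < 2 := by
            by_contra h
            exact hj (hg j (by omega))
          simp only [Finset.mem_insert, Finset.mem_singleton, Fin.ext_iff]
          omega
        have hc : g.1.support.card = 2 :=
          le_antisymm ((Finset.card_le_card hsub).trans Finset.card_le_two)
            (Perm.two_le_card_support_of_ne_one hne')
        have := (Perm.card_support_eq_two.1 hc).sign_eq
        rw [Perm.mem_alternatingGroup.1 g.2] at this
        exact absurd this (by decide)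
      have hx : ((g.1 ⟨m, by omega⟩ : Fin n) : ℕ) < m + 1 := by
        by_contra h
        have e := hg _ (Nat.le_of_not_lt h)
        have := congrArg Fin.val (g.1.injective e)
        simp at this
        omega
      obtain ⟨k, hk, k1, k2⟩ := trans (m + 1) (by omega) hm _ hx
      have := ih (by omega) (k⁻¹ * g) fun j hj => by
        show k.1⁻¹ (g.1 j) = j
        rw [Perm.inv_eq_iff_eq]
        rcases Nat.lt_or_ge (j : ℕ) (m + 1) with h | h
        · rw [show j = (⟨m, by omega⟩ : Fin n) from Fin.ext (by simp; omega)]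
          exact k1.symm
        · rw [hg j h, k2 j h]
      simpa using mul_mem hk this
  exact eq_top_iff.2 fun g _ => key n le_rfl g fun j hj => absurd j.2 (by omega)

end Cfsg.Agent.ShortPres.SUGlue
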