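import Cfsg.Agent.Lib.Phan.Glue
import Cfsg.Agent.Lib.ShortPres.SUGlue.Perm
import Cfsg.Agent.Lib.ShortPres.SU3.Final

/-!
# An alternating group and `SU₃(q)` give `SU_n(q)` with few relations, `n ≥ 5` and `q ≥ 4`
-/

set_option autoImplicit false
set_option linter.unusedSectionVars false

namespace Cfsg.Agent.ShortPres.SUGlue

open Equiv Monoid Matrix Cfsg.Agent.ShortPres.Bound Cfsg.Agent.Forms Cfsg.Agent.Classical
  Cfsg.Agent.Classical.Unitary Cfsg.Agent.Phan.Shift Cfsg.Agent.Phan.Glue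

universe u

variable {F : Type u} [Field F] [Fintype F] {q n : ℕ} (hF : Fintype.card F = q ^ 2)

include hF

/-- `SU₂(q)` is generated by two elements. -/
theorem two_gen_two : ∃ x : Fin 2 → Cfsg.SU 2 F q, Subgroup.closure (Set.range x) = ⊤ := by
  classical
  have hfin : Fintype (fixField hF) := Fintype.ofFinite _
  have hK : Fintype.card (fixField hF) = q := by
    rw [← Nat.card_eq_fintype_card]; exact natCard_fixField hF
  obtain ⟨e⟩ := nonempty_SU_two_equiv hF (fixField hF) hK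
  obtain ⟨v, hv⟩ := Joint.exists_swapped (fixField hF)
  refine ⟨![e.symm v, e.symm (Joint.sw v)], ?_⟩
  have h : Set.range ![e.symm v, e.symm (Joint.sw v)] =
      e.symm.toMonoidHom '' ({v, Joint.sw v} : Set _) := by
    rw [Set.image_pair, Matrix.range_cons_cons_empty]; rfl
  rw [h, ← MonoidHom.map_closure, hv, ← MonoidHom.range_eq_map, MonoidHom.range_eq_top]
  exact e.symm.surjective

omit hF in
/-- Commutation of two images, from generators. -/
theorem commute_gens {S H : Type*} [Group S] [Group H] {ι : Type*} (x : ι → S)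
    (hx : Subgroup.closure (Set.range x) = ⊤) (f g : S →* H)
    (h : ∀ a b, Commute (f (x a)) (g (x b))) (X Y : S) : Commute (f X) (g Y) :=
  Joint.commute_closure hx f g (by rintro _ ⟨a, rfl⟩ _ ⟨b, rfl⟩; exact h a b) X Y

variable (hq : 3 < q)

include hq

set_option maxHeartbeats 800000 in
/-- The count. -/
theorem pres_large (hn : 5 ≤ n) {a k : ℕ} {f : Fin a → alternatingGroup (Fin n)} (hf : Seven.On f k)
    (S : List (alternatingGroup (Fin (n - 2)))) (hS : Subgroup.closure {x | x ∈ S} = ⊤) :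
    PresN (Cfsg.SU n F q) (a + 3) (k + 21 + (1 + 2 * S.length + if 6 ≤ n then 3 else 6)) := by
  classical
  obtain ⟨m, rfl⟩ : ∃ m, n = m + 1 := ⟨n - 1, by omega⟩
  obtain ⟨x, hx⟩ := two_gen_two hF
  let iA : alternatingGroup (Fin (m + 1)) →* Cfsg.SU (m + 1) F q := pU (m + 1) F q
  let iB : Cfsg.SU 3 F q →* Cfsg.SU (m + 1) F q := shift 0 3 (m + 1) (by omega)
  let p : Fin 4 → Fin (m + 1) := fun l => ⟨l, by omega⟩
  set cc := Joint.c3 (show 4 ≤ m + 1 by omega) with hccdef
  have hc : cc.1 (p 0) = p 1 ∧ cc.1 (p 1) = p 2 ∧ cc.1 (p 2) = p 0 ∧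
      ∀ j : Fin (m + 1), 3 ≤ (j : ℕ) → cc.1 j = j := by
    have d01 : p 0 ≠ p 1 := by simp [p, Fin.ext_iff]
    have d02 : p 0 ≠ p 2 := by simp [p, Fin.ext_iff]
    have d12 : p 1 ≠ p 2 := by simp [p, Fin.ext_iff]
    show (swap (p 0) (p 1) * swap (p 1) (p 2)) (p 0) = p 1 ∧ (swap (p 0) (p 1) * swap (p 1) (p 2)) (p 1) = p 2 ∧
      (swap (p 0) (p 1) * swap (p 1) (p 2)) (p 2) = p 0 ∧
      ∀ j : Fin (m + 1), 3 ≤ (j : ℕ) → (swap (p 0) (p 1) * swap (p 1) (p 2)) j = j
    refine ⟨?_, ?_, ?_, fun j hj => ?_⟩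
    · simp [swap_apply_def, d01, d02]
    · simp [swap_apply_def, d02.symm, d12.symm]
    · simp [swap_apply_def, d01.symm, d12.symm]
    · have hne : ∀ l : Fin 4, (l : ℕ) < 3 → j ≠ p l := fun l hl e => by
        have := congrArg Fin.val e
        change (j : ℕ) = (l : ℕ) at this
        omega
      rw [Perm.mul_apply, swap_apply_of_ne_of_ne (hne 1 (by decide)) (hne 2 (by decide)),
        swap_apply_of_ne_of_ne (hne 0 (by decide)) (hne 1 (by decide))]
  let e4 : Fin 4 ↪ Fin (m + 1) := ⟨p, fun i j h => by simpa [p, Fin.ext_iff] using h⟩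
  let H4 : alternatingGroup (Fin 4) := ⟨swap 0 3 * swap 1 2, Perm.mem_alternatingGroup.2 (by decide)⟩
  set g0 := Alt.altEmb e4 Joint.G4 with hg0def
  set g1 := Alt.altEmb e4 H4 with hg1def
  have hg0 : g0.1 (p 0) = p 2 ∧ g0.1 (p 1) = p 3 := ⟨Alt.altEmb_apply e4 _ 0, Alt.altEmb_apply e4 _ 1⟩
  have hg1 : g1.1 (p 0) = p 3 ∧ g1.1 (p 1) = p 2 := ⟨Alt.altEmb_apply e4 _ 0, Alt.altEmb_apply e4 _ 1⟩
  have sq0 : g0 * g0 = 1 := by rw [← map_mul, Joint.rel4.2.1, map_one]
  have sq1 : g1 * g1 = 1 := by rw [← map_mul, show H4 * H4 = 1 by decide, map_one]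
  let eS : Fin (m + 1 - 2) ↪ Fin (m + 1) :=
    ⟨fun i => ⟨i + 2, by omega⟩, fun i j h => by simpa [Fin.ext_iff] using h⟩
  have heS : ∀ g, (Alt.altEmb eS g).1 (p 0) = p 0 ∧ (Alt.altEmb eS g).1 (p 1) = p 1 := fun g =>
    ⟨Alt.altEmb_fix _ _ (by rintro ⟨w, hw⟩; have := congrArg Fin.val hw; change w.1 + 2 = 0 at this; omega),
      Alt.altEmb_fix _ _ (by rintro ⟨w, hw⟩; have := congrArg Fin.val hw; change w.1 + 2 = 1 at this; omega)⟩
  set sg := Joint.sig3
  have hP : iA cc = iB (pU 3 F q sg) := pU_window (by omega) cc sg (fun l => by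
    obtain ⟨a0, a1, a2, -⟩ := hc
    obtain ⟨b0, b1, b2⟩ := Joint.sig3_apply
    fin_cases l
    · simp only [sg]; exact a0.trans (Fin.ext (by simp [p, b0]))
    · simp only [sg]; exact a1.trans (Fin.ext (by simp [p, b1]))
    · simp only [sg]; exact a2.trans (Fin.ext (by simp [p, b2]))) hc.2.2.2
  -- facts in the special unitary group
  have hfixG : ∀ s ∈ S, ∀ i, Commute (iA (Alt.altEmb eS s)) (iB (shift 0 2 3 (by omega) (x i))) := fun s _ i => by
    refine mul_inv_eq_iff_eq_mul.1 ?_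
    simp only [iB, shift_comp, Nat.zero_add]
    refine conj_shift _ _ _ (fun l => ?_) _
    fin_cases l
    · exact Fin.ext (congrArg Fin.val (heS s).1 :)
    · exact Fin.ext (congrArg Fin.val (heS s).2 :)
  have hapartG : ∀ (g : alternatingGroup (Fin (m + 1))),
      (g.1 (p 0) = p 2 ∧ g.1 (p 1) = p 3 ∨ g.1 (p 0) = p 3 ∧ g.1 (p 1) = p 2) → ∀ a b,
      Commute (iB (shift 0 2 3 (by omega) a)) (iA g * iB (shift 0 2 3 (by omega) b) * (iA g)⁻¹) := by
    intro g hg a b
    simp only [iB, shift_comp, Nat.zero_add]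
    obtain ⟨c, hc'⟩ := conj_shift_mem hF (i := 0) (i' := 2) (k := 2) (n := m + 1) (by omega) (by omega) g (fun l => by
      have hl : g.1 (p 0) = p 2 ∨ g.1 (p 0) = p 3 := hg.imp And.left And.left
      have hl' : g.1 (p 1) = p 2 ∨ g.1 (p 1) = p 3 := (hg.imp And.right And.right).symm
      fin_cases l
      · show 2 ≤ (g.1 (p 0) : ℕ) ∧ (g.1 (p 0) : ℕ) < 4
        rcases hl with e | e <;> rw [e] <;> simp [p]
      · show 2 ≤ (g.1 (p 1) : ℕ) ∧ (g.1 (p 1) : ℕ) < 4
        rcases hl' with e | e <;> rw [e] <;> simp [p]) b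
    rw [← hc']
    exact shift_commute _ _ (by omega) a c
  -- the relators
  let jA : alternatingGroup (Fin (m + 1)) →* Coprod (alternatingGroup (Fin (m + 1))) (Cfsg.SU 3 F q) := Coprod.inl
  let jB : Cfsg.SU 3 F q →* Coprod (alternatingGroup (Fin (m + 1))) (Cfsg.SU 3 F q) := Coprod.inr
  let X : Fin 2 → Coprod (alternatingGroup (Fin (m + 1))) (Cfsg.SU 3 F q) :=
    fun i => jB (shift 0 2 3 (by omega) (x i))
  let com := fun (u v : Coprod (alternatingGroup (Fin (m + 1))) (Cfsg.SU 3 F q)) => u * v * u⁻¹ * v⁻¹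
  let apart := fun g : alternatingGroup (Fin (m + 1)) =>
    [com (X 0) (jA g * X 0 * (jA g)⁻¹), com (X 0) (jA g * X 1 * (jA g)⁻¹), com (X 1) (jA g * X 1 * (jA g)⁻¹)]
  let st := S.map fun s => com (jA (Alt.altEmb eS s)) (X 0)
  let st' := S.map fun s => com (jA (Alt.altEmb eS s)) (X 1)
  let E := (jA cc * (jB (pU 3 F q sg))⁻¹) ::
    (st ++ st' ++ apart g0 ++ if 6 ≤ m + 1 then [] else apart g1)
  refine (PresN.glue hf.presN (SU3.presN hF (by omega)) iA iB ?_ E ?_ ?_).mono (by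
    simp only [E, st, st', apart, List.length_cons, List.length_append, List.length_map]
    split_ifs <;> simp <;> omega)
  · refine windows_top hF (by omega) (by omega) _ fun j hj => ?_
    rintro _ ⟨b, rfl⟩
    obtain ⟨σ, hσ⟩ := exists_even (n := m + 1) (k := 2) (by omega) (fun l : Fin 2 => ⟨j + l, by omega⟩)
      (fun a b h => Fin.ext (by simpa using congrArg Fin.val h))
    rw [← conj_shift (i := 0) (by omega) hj σ (fun l => by simpa using hσ l) b]
    have e : shift 0 2 (m + 1) (by omega) b = iB (shift 0 2 3 (by omega) b) := by simp only [iB, shift_comp]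
    rw [e]
    exact mul_mem (mul_mem (Subgroup.mem_sup_left ⟨σ, rfl⟩) (Subgroup.mem_sup_right ⟨_, rfl⟩))
      (inv_mem (Subgroup.mem_sup_left ⟨σ, rfl⟩))
  · have hcom : ∀ u v, Commute (Coprod.lift iA iB u) (Coprod.lift iA iB v) →
        Coprod.lift iA iB (com u v) = 1 := fun u v h => by
      simp only [com, map_mul, map_inv]; rw [h.eq]; group
    have hap : ∀ g, (g.1 (p 0) = p 2 ∧ g.1 (p 1) = p 3 ∨ g.1 (p 0) = p 3 ∧ g.1 (p 1) = p 2) →
        ∀ e ∈ apart g, Coprod.lift iA iB e = 1 := by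
      intro g hg e he
      simp only [apart, List.mem_cons, List.not_mem_nil, or_false] at he
      rcases he with rfl | rfl | rfl <;> refine hcom _ _ ?_ <;>
        simp only [X, jA, jB, map_mul, map_inv, Coprod.lift_apply_inl, Coprod.lift_apply_inr] <;>
        exact hapartG g hg _ _
    intro r hr
    simp only [E, List.mem_cons, List.mem_append] at hr
    rcases hr with rfl | ((hr | hr) | hr) | hr
    · rw [map_mul, map_inv, Coprod.lift_apply_inl, Coprod.lift_apply_inr, hP, mul_inv_cancel]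
    · obtain ⟨s, hs, rfl⟩ := List.mem_map.1 hr
      refine hcom _ _ ?_
      simp only [X, jA, jB, Coprod.lift_apply_inl, Coprod.lift_apply_inr]
      exact hfixG s hs 0
    · obtain ⟨s, hs, rfl⟩ := List.mem_map.1 hr
      refine hcom _ _ ?_
      simp only [X, jA, jB, Coprod.lift_apply_inl, Coprod.lift_apply_inr]
      exact hfixG s hs 1
    · exact hap g0 (Or.inl hg0) r hr
    · split_ifs at hr
      · simp at hr
      · exact hap g1 (Or.inr hg1) r hr
  intro H _ α β hE
  let u0 : Cfsg.SU 2 F q →* H := β.comp (shift 0 2 3 (by omega))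
  have hcomE : ∀ u v, com u v ∈ E → Commute (Coprod.lift α β u) (Coprod.lift α β v) := fun u v h => by
    have := hE _ h
    simp only [com, map_mul, map_inv] at this
    exact mul_inv_eq_iff_eq_mul.1 (mul_inv_eq_one.1 this)
  have hX : ∀ i, Coprod.lift α β (X i) = u0 (x i) := fun i => Coprod.lift_apply_inr _ _ _
  have Rcc : α cc = β (pU 3 F q sg) := by
    have := hE _ List.mem_cons_self
    rwa [map_mul, map_inv, Coprod.lift_apply_inl, Coprod.lift_apply_inr, mul_inv_eq_one] at this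
  have Rst : ∀ s ∈ S, ∀ i, Commute (α (Alt.altEmb eS s)) (u0 (x i)) := by
    intro s hs i
    have := hcomE (jA (Alt.altEmb eS s)) (X i) (by
      refine List.mem_cons_of_mem _ (List.mem_append_left _ (List.mem_append_left _ ?_))
      fin_cases i
      · exact List.mem_append_left _ (List.mem_map.2 ⟨s, hs, rfl⟩)
      · exact List.mem_append_right _ (List.mem_map.2 ⟨s, hs, rfl⟩))
    rwa [hX, show Coprod.lift α β (jA (Alt.altEmb eS s)) = α _ from Coprod.lift_apply_inl _ _ _] at this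
  let cj : alternatingGroup (Fin (m + 1)) → (Cfsg.SU 2 F q →* H) :=
    fun σ => (MulAut.conj (α σ)).toMonoidHom.comp u0
  have cj_def : ∀ σ b, cj σ b = α σ * u0 b * (α σ)⁻¹ := fun σ b => rfl
  have hstab : ∀ g : alternatingGroup (Fin (m + 1)), g.1 (p 0) = p 0 → g.1 (p 1) = p 1 → ∀ b,
      Commute (α g) (u0 b) := by
    intro g h0 h1
    obtain ⟨s, rfl⟩ := Linear.mem_range_altEmb eS g fun y hy => by
      rcases (show y = p 0 ∨ y = p 1 by
        by_contra h
        push Not at h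
        refine hy ⟨⟨y.1 - 2, by omega⟩, Fin.ext ?_⟩
        have h0 : (y : ℕ) ≠ 0 := fun e => h.1 (Fin.ext e)
        have h1 : (y : ℕ) ≠ 1 := fun e => h.2 (Fin.ext e)
        show y.1 - 2 + 2 = y.1
        omega) with rfl | rfl
      · exact h0
      · exact h1
    intro b
    have hall : ∀ i, Commute (α (Alt.altEmb eS s)) (u0 (x i)) := fun i => by
      have : Subgroup.closure {y | y ∈ S} ≤
          (Subgroup.centralizer ({u0 (x i)} : Set H)).comap (α.comp (Alt.altEmb eS)) := by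
        rw [Subgroup.closure_le]
        exact fun s' hs' => Subgroup.mem_centralizer_singleton_iff.2 (Rst s' hs' i).eq
      exact Subgroup.mem_centralizer_singleton_iff.1 (this (hS ▸ Subgroup.mem_top s))
    have : Subgroup.closure (Set.range x) ≤ (Subgroup.centralizer ({α (Alt.altEmb eS s)} : Set H)).comap u0 := by
      rw [Subgroup.closure_le]
      rintro _ ⟨i, rfl⟩
      exact Subgroup.mem_centralizer_singleton_iff.2 (hall i).symm.eq
    exact (show Commute (u0 b) (α (Alt.altEmb eS s)) from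
      Subgroup.mem_centralizer_singleton_iff.1 (this (hx ▸ Subgroup.mem_top b))).symm
  have cj_eq : ∀ σ σ' : alternatingGroup (Fin (m + 1)), σ.1 (p 0) = σ'.1 (p 0) → σ.1 (p 1) = σ'.1 (p 1) →
      ∀ b, cj σ b = cj σ' b := by
    intro σ σ' h0 h1 b
    have h := hstab (σ'⁻¹ * σ) (by show σ'.1⁻¹ (σ.1 (p 0)) = p 0; rw [h0]; simp)
      (by show σ'.1⁻¹ (σ.1 (p 1)) = p 1; rw [h1]; simp) b
    have e : α σ = α σ' * α (σ'⁻¹ * σ) := by rw [← map_mul, mul_inv_cancel_left]
    rw [cj_def, cj_def, e, _root_.mul_inv_rev, show α σ' * α (σ'⁻¹ * σ) * u0 b * ((α (σ'⁻¹ * σ))⁻¹ * (α σ')⁻¹) =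
      α σ' * (α (σ'⁻¹ * σ) * u0 b) * (α (σ'⁻¹ * σ))⁻¹ * (α σ')⁻¹ by group, h.eq]
    group
  have hex : ∀ i, ∃ σ : alternatingGroup (Fin (m + 1)), ∀ (h : i + 2 ≤ m + 1) (l : Fin 2),
      σ.1 ⟨l, by omega⟩ = ⟨i + l, by omega⟩ := by
    intro i
    by_cases h : i + 2 ≤ m + 1
    · obtain ⟨σ, hσ⟩ := exists_even (n := m + 1) (k := 2) (by omega) (fun l : Fin 2 => ⟨i + l, by omega⟩)
        (fun a b h => Fin.ext (by simpa using congrArg Fin.val h))
      exact ⟨σ, fun _ => hσ⟩
    · exact ⟨1, fun h' => absurd h' h⟩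
  choose σw hσw using hex
  let uw : ℕ → (Cfsg.SU 2 F q →* H) := fun i => cj (σw i)
  have uw_eq : ∀ i (hi : i + 2 ≤ m + 1) (σ : alternatingGroup (Fin (m + 1))),
      (σ.1 (p 0) : ℕ) = i → (σ.1 (p 1) : ℕ) = i + 1 → ∀ b, uw i b = cj σ b := fun i hi σ h0 h1 =>
    cj_eq _ _ (Fin.ext (by rw [h0]; exact (congrArg Fin.val (hσw i hi 0)).trans (by simp)))
      (Fin.ext (by rw [h1]; exact (congrArg Fin.val (hσw i hi 1)).trans (by simp)))
  have hshift1 : ∀ b, β (shift 1 2 3 (by omega) b) = cj cc b := by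
    intro b
    rw [cj_def, Rcc]
    show _ = β _ * β _ * (β _)⁻¹
    rw [← map_inv, ← map_mul, ← map_mul]
    congr 1
    refine (conj_shift (i := 0) _ _ sg (fun l => ?_) b).symm
    fin_cases l
    · exact Joint.sig3_apply.1
    · exact Joint.sig3_apply.2.1
  have hψ : ∀ i (hi : i + 3 ≤ m + 1), ∃ σ : alternatingGroup (Fin (m + 1)),
      (∀ l : Fin 3, σ.1 ⟨l, by omega⟩ = ⟨i + l, by omega⟩) ∧
      (∀ b, α σ * β (shift 0 2 3 (by omega) b) * (α σ)⁻¹ = uw i b) ∧
      ∀ b, α σ * β (shift 1 2 3 (by omega) b) * (α σ)⁻¹ = uw (i + 1) b := by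
    intro i hi
    obtain ⟨σ, hσ⟩ := exists_even (n := m + 1) (k := 3) (by omega) (fun l : Fin 3 => ⟨i + l, by omega⟩)
      (fun a b h => Fin.ext (by simpa using congrArg Fin.val h))
    refine ⟨σ, hσ, fun b => (uw_eq i (by omega) σ ?_ ?_ b).symm, fun b => ?_⟩
    · exact congrArg Fin.val (hσ 0)
    · exact congrArg Fin.val (hσ 1)
    · rw [uw_eq (i + 1) (by omega) (σ * cc) (by
          show ((σ.1 (cc.1 (p 0)) : Fin (m + 1)) : ℕ) = _
          rw [hc.1]; exact congrArg Fin.val (hσ 1)) (by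
          show ((σ.1 (cc.1 (p 1)) : Fin (m + 1)) : ℕ) = _
          rw [hc.2.1]; exact congrArg Fin.val (hσ 2)) b, hshift1, cj_def, cj_def, map_mul]
      group
  obtain ⟨Φ, hΦ⟩ := glue (G := H) hF (by omega) hq m (by omega) uw (fun i hi => by
      obtain ⟨σ, -, h0, h1⟩ := hψ i (by omega)
      exact ⟨(MulAut.conj (α σ)).toMonoidHom.comp β, h0, h1⟩) (by
    intro i j hij hj a b
    have hbase : ∀ g, g * g = 1 → (∀ e ∈ apart g, e ∈ E) → ∀ a b, Commute (u0 a) (cj g b) := by
      intro g hg2 hmem a b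
      refine commute_gens x hx u0 (cj g) (fun c d => ?_) a b
      have hh : ∀ c d, com (X c) (jA g * X d * (jA g)⁻¹) ∈ E → Commute (u0 (x c)) (cj g (x d)) := by
        intro c d h
        have := hcomE _ _ h
        rwa [map_mul, map_mul, map_inv, hX, hX, show Coprod.lift α β (jA g) = α g from Coprod.lift_apply_inl _ _ _]
          at this
      fin_cases c <;> fin_cases d
      · exact hh 0 0 (hmem _ (by simp [apart]))
      · exact hh 0 1 (hmem _ (by simp [apart]))
      · have h := ((hh 0 1 (hmem _ (by simp [apart]))).map (MulAut.conj (α g)).toMonoidHom).symm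
        simp only [MulEquiv.coe_toMonoidHom, MulAut.conj_apply, cj_def] at h ⊢
        have e : α g * (α g * u0 (x 1) * (α g)⁻¹) * (α g)⁻¹ = u0 (x 1) := by
          rw [show α g * (α g * u0 (x 1) * (α g)⁻¹) * (α g)⁻¹ = α g * α g * u0 (x 1) * (α g * α g)⁻¹ by group,
            ← map_mul, hg2, map_one]
          group
        rw [e] at h
        exact h
      · exact hh 1 1 (hmem _ (by simp [apart]))
    have h0 := hbase g0 sq0 fun e he => List.mem_cons_of_mem _ (List.mem_append_left _ (List.mem_append_right _ he))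
    have finish : ∀ (σ g : alternatingGroup (Fin (m + 1))), (∀ a b, Commute (u0 a) (cj g b)) →
        (σ.1 (p 0) : ℕ) = i → (σ.1 (p 1) : ℕ) = i + 1 → (σ.1 (g.1 (p 0)) : ℕ) = j →
        (σ.1 (g.1 (p 1)) : ℕ) = j + 1 → uw i a * uw j b = uw j b * uw i a := by
      intro σ g hg s0 s1 s2 s3
      rw [uw_eq i (by omega) σ s0 s1, uw_eq j (by omega) (σ * g) s2 s3]
      have := (hg a b).map (MulAut.conj (α σ)).toMonoidHom
      simp only [MulEquiv.coe_toMonoidHom, MulAut.conj_apply, cj_def] at this ⊢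
      rw [show α σ * (α g * u0 b * (α g)⁻¹) * (α σ)⁻¹ = α (σ * g) * u0 b * (α (σ * g))⁻¹ by
        rw [map_mul]; group] at this
      exact this.eq
    by_cases h6 : 6 ≤ m + 1
    · obtain ⟨σ, hσ⟩ := exists_even (n := m + 1) (k := 4) (by omega)
        ![⟨i, by omega⟩, ⟨i + 1, by omega⟩, ⟨j, by omega⟩, ⟨j + 1, by omega⟩]
        (Joint.inj_four (by simp) (by simp; omega) (by simp; omega) (by simp; omega) (by simp; omega) (by simp))
      exact finish σ g0 h0 (congrArg Fin.val (hσ 0)) (congrArg Fin.val (hσ 1))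
        (by rw [hg0.1]; exact congrArg Fin.val (hσ 2)) (by rw [hg0.2]; exact congrArg Fin.val (hσ 3))
    · have h1 := hbase g1 sq1 fun e he => List.mem_cons_of_mem _ (List.mem_append_right _ (by rw [if_neg h6]; exact he))
      obtain ⟨σ, s0, s1, h⟩ := Joint.exists_four' (α := Fin (m + 1)) (a := p 0) (b := p 1) (c := p 2) (d := p 3)
        (x := ⟨i, by omega⟩) (y := ⟨i + 1, by omega⟩) (w := ⟨j, by omega⟩) (v := ⟨j + 1, by omega⟩)
        (by simp [p, Fin.ext_iff]) (by simp [p, Fin.ext_iff]) (by simp [p, Fin.ext_iff]) (by simp [p, Fin.ext_iff])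
        (by simp [p, Fin.ext_iff]) (by simp [p, Fin.ext_iff]) (by simp) (by simp; omega) (by simp; omega)
        (by simp; omega) (by simp; omega) (by simp)
      rcases h with ⟨s2, s3⟩ | ⟨s2, s3⟩
      · exact finish σ g0 h0 (congrArg Fin.val s0) (congrArg Fin.val s1)
          (by rw [hg0.1, s2]) (by rw [hg0.2, s3])
      · exact finish σ g1 h1 (congrArg Fin.val s0) (congrArg Fin.val s1)
          (by rw [hg1.1, s3]) (by rw [hg1.2, s2]))
  refine ⟨Φ, ?_, ?_⟩
  · refine MonoidHom.eq_of_eqOn_top fun g _ => ?_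
    suffices h : (Φ.comp iA).eqLocus α = ⊤ from (h ▸ Subgroup.mem_top g : g ∈ (Φ.comp iA).eqLocus α)
    refine eq_top_of_win (by omega) _ fun i hi => ?_
    obtain ⟨σ, hσ, h0, h1⟩ := hψ i hi
    have hsh : Φ.comp (shift i 3 (m + 1) hi) = (MulAut.conj (α σ)).toMonoidHom.comp β := by
      refine hom_ext hF (by omega) (by omega) fun l hl b => ?_
      rw [MonoidHom.comp_apply, shift_comp, hΦ]
      rcases (show l = 0 ∨ l = 1 by omega) with rfl | rfl
      · exact (h0 b).symm
      · exact (h1 b).symm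
    refine ⟨σ * cc * σ⁻¹, ?_, ?_⟩
    · show Φ (iA (σ * cc * σ⁻¹)) = α (σ * cc * σ⁻¹)
      rw [map_mul iA, map_mul iA, map_inv iA, hP]
      show Φ (pU (m + 1) F q σ * shift 0 3 (m + 1) _ (pU 3 F q sg) * (pU (m + 1) F q σ)⁻¹) = _
      rw [conj_shift (i := 0) _ hi σ (fun l => by simpa using hσ l), ← MonoidHom.comp_apply Φ, hsh,
        map_mul α, map_mul α, map_inv α, Rcc]
      rfl
    · have hinv : ∀ l : Fin 3, σ⁻¹.1 ⟨i + l, by omega⟩ = ⟨l, by omega⟩ := fun l => by
        show σ.1⁻¹ _ = _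
        rw [← hσ l]; simp
      refine ⟨?_, ?_, ?_, fun j hj => ?_⟩
      · show σ.1 (cc.1 (σ⁻¹.1 _)) = _
        rw [show (⟨i, by omega⟩ : Fin (m + 1)) = ⟨i + ((0 : Fin 3) : ℕ), by simp; omega⟩ from Fin.ext (by simp),
          hinv 0]
        exact (congrArg σ.1 hc.1).trans (hσ 1)
      · show σ.1 (cc.1 (σ⁻¹.1 _)) = _
        refine (congrArg (fun y => σ.1 (cc.1 y)) (hinv 1)).trans ?_
        exact (congrArg σ.1 hc.2.1).trans (hσ 2)
      · show σ.1 (cc.1 (σ⁻¹.1 _)) = _
        refine (congrArg (fun y => σ.1 (cc.1 y)) (hinv 2)).trans ?_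
        exact (congrArg σ.1 hc.2.2.1).trans ((hσ 0).trans (Fin.ext (by simp)))
      · show σ.1 (cc.1 (σ.1⁻¹ j)) = j
        have hy : 3 ≤ ((σ.1⁻¹ j : Fin (m + 1)) : ℕ) := by
          by_contra h
          have hy' : σ.1 (σ.1⁻¹ j) = j := σ.1.apply_symm_apply j
          generalize σ.1⁻¹ j = y at h hy'
          have e := (hσ ⟨(y : ℕ), by omega⟩).symm.trans hy'
          have := congrArg Fin.val e
          change i + (y : ℕ) = (j : ℕ) at this
          omega
        rw [hc.2.2.2 _ hy]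
        simp
  · refine hom_ext hF (by omega) (by omega) fun l hl b => ?_
    show Φ (shift 0 3 (m + 1) _ (shift l 2 3 hl b)) = β (shift l 2 3 hl b)
    rw [shift_comp, hΦ]
    rcases (show l = 0 ∨ l = 1 by omega) with rfl | rfl
    · rw [uw_eq (0 + 0) (by omega) 1 (by simp [p]) (by simp [p]) b, cj_def, map_one, one_mul, inv_one, mul_one]
      rfl
    · rw [uw_eq (0 + 1) (by omega) cc (by rw [hc.1]; simp [p]) (by rw [hc.2.1]; simp [p]) b, ← hshift1]

end Cfsg.Agent.ShortPres.SUGlue
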