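import Cfsg.Agent.Lib.MonomialMult.Coded
import Cfsg.Agent.Lib.ShortPres.SUGlue.Cert
import Cfsg.Agent.Lib.ShortPres.Tracked
import Cfsg.Agent.Lib.Phan.Glue
import Cfsg.Agent.Lib.Classical.UnitaryFrames

/-!
# `SU₄` over a coded field, with generators given by coded columns
-/

set_option autoImplicit false
set_option linter.unusedSectionVars false

namespace Cfsg.Agent.ShortPres.SUGlue.Model

open Matrix Cfsg.Agent.MonomialMult Cfsg.Agent.Forms Cfsg.Agent.Classical Cfsg.Agent.Classical.Unitary
open Cfsg.Agent.Phan.Shift Cfsg.Agent.ShortPres.Bound Cert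

variable {K : Type} [Field K] [Fintype K] {q : ℕ} (C : Cod K q)

/-- The matrix with the given coded columns. -/
def colMat (cols : List ℕ) : Matrix (Fin 4) (Fin 4) K := Matrix.of fun i j => C.vec 4 (cols.getD j 0) i

/-- Applying coded columns to a code. -/
def app (cols : List ℕ) (v : ℕ) : ℕ :=
  C.pack 4 fun i => C.sumN 4 fun j => C.mulN (C.dig (cols.getD j 0) i) (C.dig v j)

theorem vec_app (cols : List ℕ) (v : ℕ) : C.vec 4 (app C cols v) = colMat C cols *ᵥ C.vec 4 v := by
  funext i
  have hm := fun j => C.mul_spec _ (C.dig_lt (cols.getD j 0) i) _ (C.dig_lt v j)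
  rw [Cod.vec, app, C.dig_pack 4 _ (fun l _ => (C.sumN_spec 4 _ fun j _ =>
    (C.mul_spec _ (C.dig_lt (cols.getD j 0) l) _ (C.dig_lt v j)).1).1) i i.2,
    (C.sumN_spec 4 _ fun j _ => (hm j).1).2]
  simp only [Matrix.mulVec, dotProduct, colMat, Matrix.of_apply, Cod.vec]
  exact Finset.sum_congr rfl fun j _ => (hm j).2

theorem app_lt (cols : List ℕ) (v : ℕ) : app C cols v < C.N ^ 4 :=
  C.pack_lt 4 _ fun i _ => (C.sumN_spec 4 _ fun j _ =>
    (C.mul_spec _ (C.dig_lt (cols.getD j 0) i) _ (C.dig_lt v j)).1).1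

/-- The code of a standard vector. -/
def eN (j : ℕ) : ℕ := C.N ^ j

/-- The columns of a generator preserve the form. -/
def gramOK (cols : List ℕ) : Bool :=
  (List.range 4).all fun i => (List.range 4).all fun j =>
    Nat.beq (C.hN 4 (cols.getD i 0) (cols.getD j 0)) (if i = j then 1 else 0)

/-- Basic sanity of the code. -/
def baseOK : Bool := Nat.beq (C.toN 1) 1

variable {C} (hbase : baseOK C = true)

include hbase

theorem one_lt : 1 < C.N := by
  have := C.toN_lt 1
  rwa [Nat.eq_of_beq_eq_true hbase] at this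

theorem ofN_one : C.ofN 1 = 1 := by
  conv_lhs => rw [← Nat.eq_of_beq_eq_true hbase]
  exact C.ofN_toN 1

theorem vec_eN (j : Fin 4) : C.vec 4 (eN C j) = Pi.single j 1 := by
  have h1 := one_lt hbase
  have h2 : C.N ≠ 0 := by omega
  funext i
  rw [Cod.vec, Pi.single_apply]
  fin_cases i <;> fin_cases j <;>
    simp [eN, Cod.dig, pow_succ, pow_zero, C.ofN_zero, ofN_one hbase, Nat.mul_mod_left, Nat.mul_mod_right, Nat.div_self, Nat.pos_iff_ne_zero, h2,
      Nat.mod_eq_of_lt h1, Nat.div_eq_of_lt h1]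

theorem vec_mat_ext {A B : Matrix (Fin 4) (Fin 4) K}
    (h : ∀ j : Fin 4, A *ᵥ C.vec 4 (eN C j) = B *ᵥ C.vec 4 (eN C j)) : A = B := by
  refine Matrix.ext fun i j => ?_
  have := congrFun (h j) i
  rwa [vec_eN hbase, Matrix.mulVec_single_one, Matrix.mulVec_single_one] at this

variable (hF : Fintype.card K = q ^ 2)

include hF

theorem colMat_form {cols : List ℕ} (h : gramOK C cols = true) (u v : Fin 4 → K) :
    Cfsg.hermForm 4 K q (colMat C cols *ᵥ u) (colMat C cols *ᵥ v) = Cfsg.hermForm 4 K q u v := by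
  simp only [gramOK, List.all_eq_true, List.mem_range] at h
  have e : ∀ x : Fin 4 → K, colMat C cols *ᵥ x = ∑ j, x j • C.vec 4 (cols.getD j 0) := fun x => by
    funext i
    simp only [Matrix.mulVec, dotProduct, colMat, Matrix.of_apply, Finset.sum_apply, Pi.smul_apply, smul_eq_mul]
    exact Finset.sum_congr rfl fun j _ => mul_comm _ _
  have g : ∀ i j : Fin 4, Cfsg.hermForm 4 K q (C.vec 4 (cols.getD i 0)) (C.vec 4 (cols.getD j 0)) =
      if i = j then 1 else 0 := fun i j => by
    rw [Cfsg.hermForm, ← (C.hN_spec (n := 4) _ _).2, Nat.eq_of_beq_eq_true (h i i.2 j j.2)]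
    simp only [Fin.val_inj]
    split_ifs
    · exact ofN_one hbase
    · exact C.ofN_zero
  rw [e, e, H_sum_left]
  simp only [H_sum_right hF, H_smul_left, H_smul_right, g]
  simp [Cfsg.hermForm, Finset.sum_ite_eq, mul_comm]

omit hbase hF in
/-- Evaluating a word on a code. -/
def evN (C : Cod K q) (G : List (List ℕ)) : List ℕ → ℕ → ℕ
  | [], v => v
  | y :: w, v => evN C G w (app C (G.getD y []) v)

omit hbase hF in
/-- A word has the given images of the standard vectors. -/
def imgOK (C : Cod K q) (G : List (List ℕ)) (w : List ℕ) (js : List (ℕ × ℕ)) : Bool :=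
  (w.all fun y => decide (y < 6)) && js.all fun p => decide (p.1 < 4) && Nat.beq (evN C G w (eN C p.1)) p.2

omit hbase hF in
/-- The six matrices are in pairs inverse to each other and unitary. -/
def gensOK (C : Cod K q) (G : List (List ℕ)) : Bool :=
  (List.range 6).all fun x => gramOK C (G.getD x []) &&
    (List.range 4).all fun j => Nat.beq (app C (G.getD x []) (app C (G.getD (Cert.inv x) []) (eN C j))) (eN C j)

/-- The generators. -/
def gen (G : List (List ℕ)) (hg : gensOK C G = true)
    (hd : ∀ i : Fin 3, (colMat C (G.getD (2 * i) [])).det = 1) (i : Fin 3) : Cfsg.SU 4 K q :=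
  suMk (colMat C (G.getD (2 * i) [])) (hd i) fun u v => colMat_form hbase hF (by
    simp only [gensOK, Bool.and_eq_true, List.all_eq_true, List.mem_range] at hg
    exact (hg _ (by omega)).1) u v

variable (G : List (List ℕ)) (hg : gensOK C G = true)
  (hd : ∀ i : Fin 3, (colMat C (G.getD (2 * i) [])).det = 1)

/-- The generators as a sequence. -/
def genT (i : ℕ) : Cfsg.SU 4 K q := if h : i < 3 then gen hbase hF G hg hd ⟨i, h⟩ else 1

theorem mat_letter (y : ℕ) (hy : y < 6) : mat (lt (genT hbase hF G hg hd) y) = colMat C (G.getD y []) := by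
  have hinv : ∀ x < 6, colMat C (G.getD x []) * colMat C (G.getD (Cert.inv x) []) = 1 := fun x hx => by
    have h := hg
    simp only [gensOK, Bool.and_eq_true, List.all_eq_true, List.mem_range] at h
    refine vec_mat_ext hbase fun j => ?_
    rw [← Matrix.mulVec_mulVec, ← vec_app, ← vec_app, Nat.eq_of_beq_eq_true ((h x hx).2 j j.2), Matrix.one_mulVec]
  unfold lt genT
  rcases Nat.mod_two_eq_zero_or_one y with h | h
  · rw [if_pos h, dif_pos (by omega)]
    show colMat C _ = _
    rw [show 2 * (y / 2) = y by omega]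
  · rw [if_neg (by omega), dif_pos (by omega)]
    refine (left_inv_eq_right_inv ?_ (hinv (y - 1) (by omega))).trans ?_
    · rw [show colMat C (G.getD (y - 1) []) = mat (gen hbase hF G hg hd ⟨y / 2, by omega⟩) from by
        show _ = colMat C _
        rw [show 2 * (y / 2) = y - 1 by omega], ← mat_mul, inv_mul_cancel, mat_one]
    · rw [show Cert.inv (y - 1) = y by unfold Cert.inv; rw [if_pos (by omega)]; omega]

theorem mat_ev : ∀ (w : List ℕ), (∀ y ∈ w, y < 6) → ∀ v,
    mat (ev (lt (genT hbase hF G hg hd)) w) *ᵥ C.vec 4 v = C.vec 4 (evN C G w v)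
  | [], _, v => by simp [ev, evN, mat_one]
  | y :: w, h, v => by
    rw [ev, mul_mulVec, mat_letter hbase hF G hg hd y (h y List.mem_cons_self), ← vec_app, evN]
    exact mat_ev w (fun z hz => h z (List.mem_cons_of_mem _ hz)) _

theorem img_spec {w : List ℕ} {js : List (ℕ × ℕ)} (h : imgOK C G w js = true) {p : ℕ × ℕ} (hp : p ∈ js) :
    ∃ hp4 : p.1 < 4, mat (ev (lt (genT hbase hF G hg hd)) w) *ᵥ (Pi.single ⟨p.1, hp4⟩ 1 : Fin 4 → K) =
      C.vec 4 p.2 := by
  simp only [imgOK, Bool.and_eq_true, List.all_eq_true, decide_eq_true_eq] at h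
  obtain ⟨h4, he⟩ := h.2 p hp
  refine ⟨h4, ?_⟩
  rw [← vec_eN hbase, mat_ev hbase hF G hg hd w h.1, Nat.eq_of_beq_eq_true he]

omit hbase hF in
/-- A word evaluates to one. -/
def oneOK (C : Cod K q) (G : List (List ℕ)) (w : List ℕ) : Bool :=
  imgOK C G w [(0, eN C 0), (1, eN C 1), (2, eN C 2), (3, eN C 3)]

theorem ev_eq_one {w : List ℕ} (h : oneOK C G w = true) : ev (lt (genT hbase hF G hg hd)) w = 1 := by
  have hall : ∀ j : Fin 4, mat (ev (lt (genT hbase hF G hg hd)) w) *ᵥ C.vec 4 (eN C j) = C.vec 4 (eN C j) := by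
    intro j
    obtain ⟨_, e⟩ := img_spec hbase hF G hg hd h (p := ((j : ℕ), eN C j)) (by fin_cases j <;> simp)
    rw [← vec_eN hbase] at e
    exact e
  refine Subtype.ext (Subtype.ext ?_)
  exact vec_mat_ext hbase (B := 1) fun j => (hall j).trans (Matrix.one_mulVec _).symm

omit hbase in
/-- A subgroup containing the stabiliser of the last standard vector and transitive on unit vectors is everything. -/
theorem top_of_trans {M : ℕ} (T : Subgroup (Cfsg.SU (M + 1) K q))
    (hst : (shift 0 M (M + 1) (by omega)).range ≤ T)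
    (htr : ∀ v : Fin (M + 1) → K, Cfsg.hermForm (M + 1) K q v v = 1 →
      ∃ t ∈ T, mat t *ᵥ (Pi.single (Fin.last M) 1 : Fin (M + 1) → K) = v) : T = ⊤ := by
  refine eq_top_iff.2 fun g _ => ?_
  obtain ⟨t, ht, e⟩ := htr (mat g *ᵥ Pi.single (Fin.last M) 1) (by rw [SU_H, H_single_single hF, if_pos rfl])
  have hmem : t⁻¹ * g ∈ (shift (F := K) (q := q) 0 M (M + 1) (by omega)).range := by
    rw [mem_range hF]
    intro j hj
    rw [show j = Fin.last M from Fin.ext (by simp; omega), mul_mulVec]
    exact inv_mulVec t e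
  simpa using mul_mem ht (hst hmem)

omit hbase in
/-- An element moving each coordinate to the next one carries windows to windows. -/
theorem turn_range (x : Cfsg.SU 4 K q) (c : K) (h : ∀ j : Fin 3,
    mat x *ᵥ (Pi.single j.castSucc 1 : Fin 4 → K) = Pi.single j.succ 1)
    (h0 : mat x *ᵥ (Pi.single 3 1 : Fin 4 → K) = c • Pi.single 0 1) (hc : c ≠ 0) {i k : ℕ} (hi : i + k < 4) :
    (shift (F := K) (q := q) i k 4 (by omega)).range.map (MulAut.conj x).toMonoidHom =
      (shift (i + 1) k 4 (by omega)).range := by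
  have hle : (shift (F := K) (q := q) i k 4 (by omega)).range.map (MulAut.conj x).toMonoidHom ≤
      (shift (i + 1) k 4 (by omega)).range := by
    rintro _ ⟨g, hg, rfl⟩
    rw [MulEquiv.coe_toMonoidHom, MulAut.conj_apply, mem_range hF]
    intro j hj
    rw [mul_mulVec, mul_mulVec]
    rcases Nat.eq_zero_or_pos (j : ℕ) with h' | h'
    · obtain rfl : j = 0 := Fin.ext h'
      have e : mat x⁻¹ *ᵥ (Pi.single 0 1 : Fin 4 → K) = c⁻¹ • Pi.single 3 1 := by
        refine inv_mulVec x ?_
        rw [Matrix.mulVec_smul, h0, smul_smul, inv_mul_cancel₀ hc, one_smul]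
      rw [e, Matrix.mulVec_smul, (mem_range hF _ g).1 hg 3 (by simp; omega), Matrix.mulVec_smul, h0, smul_smul,
        inv_mul_cancel₀ hc, one_smul]
    · obtain ⟨l, rfl⟩ : ∃ l : Fin 3, l.succ = j := ⟨⟨j - 1, by omega⟩, Fin.ext (by simp; omega)⟩
      rw [inv_mulVec x (h l), (mem_range hF _ g).1 hg _ (by simp at hj ⊢; omega), h l]
  refine Subgroup.eq_of_le_of_card_ge hle (le_of_eq ?_)
  have hcard : ∀ l (hl : l + k ≤ 4), Nat.card (shift (F := K) (q := q) l k 4 hl).range = Nat.card (Cfsg.SU k K q) :=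
    fun l hl => (Nat.card_congr (MonoidHom.ofInjective (shift_injective hl hF)).toEquiv).symm
  rw [Subgroup.card_map_of_injective (MulAut.conj x).injective, hcard, hcard]

omit hbase hF in
/-- Words whose values carry the last coordinate of a window to every unit vector of the window. -/
def transOK (C : Cod K q) (G : List (List ℕ)) (M : ℕ) (ws : List (List ℕ)) : Bool :=
  (List.range (C.N ^ (M + 1))).all fun c =>
    !Nat.beq (C.hN 4 c c) 1 ||
      ws.any fun w => imgOK C G w ((M, c) :: (List.range (3 - M)).map fun j => (M + 1 + j, eN C (M + 1 + j)))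

theorem dig_eq_zero : ∀ (k c i : ℕ), c < C.N ^ k → k ≤ i → C.dig c i = 0
  | 0, c, 0, hc, _ => by simp at hc; subst hc; simp [Cod.dig]
  | k + 1, c, 0, _, hi => absurd hi (by omega)
  | 0, c, i + 1, hc, _ => by
    simp at hc; subst hc
    rw [Cod.dig, Nat.zero_div]
    exact dig_eq_zero 0 0 i (by simp) (Nat.zero_le _)
  | k + 1, c, i + 1, hc, hi => by
    rw [Cod.dig]
    exact dig_eq_zero k _ i (Nat.div_lt_of_lt_mul (by rwa [pow_succ'] at hc)) (by omega)

theorem window_top {M : ℕ} (hM : M < 4) {ws : List (List ℕ)} (h : transOK C G M ws = true)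
    (T : Subgroup (Cfsg.SU 4 K q)) (hT : ∀ i < 3, genT hbase hF G hg hd i ∈ T)
    (hst : (shift 0 M 4 (by omega)).range ≤ T) : (shift 0 (M + 1) 4 (by omega)).range ≤ T := by
  have htop : T.comap (shift 0 (M + 1) 4 (by omega)) = ⊤ := by
    refine top_of_trans hF _ ?_ fun v hv => ?_
    · rintro _ ⟨a, rfl⟩
      rw [Subgroup.mem_comap, shift_comp]
      exact hst ⟨a, rfl⟩
    set c := C.enc v
    have hc : c < C.N ^ (M + 1) := C.enc_lt v
    have hv4 : ∀ i : Fin 4, C.vec 4 c i = if hi : (i : ℕ) < M + 1 then v ⟨i, hi⟩ else 0 := fun i => by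
      split_ifs with hi
      · exact congrFun (C.vec_enc v) ⟨i, hi⟩
      · rw [Cod.vec, dig_eq_zero hbase hF _ _ _ hc (by omega), C.ofN_zero]
    have hn : Nat.beq (C.hN 4 c c) 1 = true := by
      obtain ⟨hlt, e⟩ := C.hN_spec (n := 4) c c
      have e1 : C.ofN (C.hN 4 c c) = 1 := by
        rw [e, ← hv, Cfsg.hermForm]
        refine (Finset.sum_subset (Finset.subset_univ (Finset.univ.map
          ⟨fun l : Fin (M + 1) => (⟨(l : ℕ), by omega⟩ : Fin 4), fun a b h => Fin.ext (by simpa [Fin.ext_iff] using h)⟩))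
          fun i _ hi => ?_).symm.trans ?_
        · rw [hv4, dif_neg, zero_mul]
          intro hlt'
          exact hi (Finset.mem_map.2 ⟨⟨i, hlt'⟩, Finset.mem_univ _, rfl⟩)
        · rw [Finset.sum_map]
          refine Finset.sum_congr rfl fun l _ => ?_
          have e' : C.vec 4 c ⟨(l : ℕ), by omega⟩ = v l := (hv4 _).trans (dif_pos l.2)
          exact congrArg₂ (fun a b => a * b ^ q) e' e'
      rw [← C.toN_ofN _ hlt, e1, Nat.eq_of_beq_eq_true hbase]
      rfl
    simp only [transOK, List.all_eq_true, List.mem_range] at h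
    have h' := h c hc
    rw [hn, Bool.not_true, Bool.false_or, List.any_eq_true] at h'
    obtain ⟨w, -, hw⟩ := h'
    have hgmem : ev (lt (genT hbase hF G hg hd)) w ∈ T := by
      have hw' := hw
      simp only [imgOK, Bool.and_eq_true, List.all_eq_true, decide_eq_true_eq] at hw'
      have : ∀ u : List ℕ, (∀ y ∈ u, y < 6) → ev (lt (genT hbase hF G hg hd)) u ∈ T := by
        intro u
        induction u with
        | nil => exact fun _ => one_mem T
        | cons y u ih =>
          intro hu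
          refine mul_mem (ih fun z hz => hu z (List.mem_cons_of_mem _ hz)) ?_
          have hy := hu y List.mem_cons_self
          unfold lt
          split_ifs
          · exact hT _ (by omega)
          · exact inv_mem (hT _ (by omega))
      exact this w hw'.1
    have hr : ev (lt (genT hbase hF G hg hd)) w ∈ (shift (F := K) (q := q) 0 (M + 1) 4 (by omega)).range := by
      rw [mem_range hF]
      intro j hj
      obtain ⟨hj4, e⟩ := img_spec hbase hF G hg hd hw (p := ((j : ℕ), eN C j)) (List.mem_cons_of_mem _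
        (List.mem_map.2 ⟨(j : ℕ) - (M + 1), List.mem_range.2 (by omega),
          by rw [show M + 1 + ((j : ℕ) - (M + 1)) = (j : ℕ) by omega]⟩))
      rwa [vec_eN hbase] at e
    obtain ⟨a, ha⟩ := hr
    refine ⟨a, ?_, funext fun l => ?_⟩
    · show shift 0 (M + 1) 4 _ a ∈ T
      rw [ha]; exact hgmem
    obtain ⟨hM4, e⟩ := img_spec hbase hF G hg hd hw (p := (M, c)) List.mem_cons_self
    have el := congrFun e (⟨l, by omega⟩ : Fin 4)
    rw [← ha, shift_apply, dif_pos ⟨Nat.zero_le _, by have := l.2; simp; omega⟩, hv4, dif_pos l.2] at el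
    refine Eq.trans ?_ el
    congr 2
    funext i
    simp [Pi.single_apply, Fin.ext_iff]
  rintro _ ⟨a, rfl⟩
  exact (htop ▸ Subgroup.mem_top a : a ∈ T.comap _)

omit hbase hF in
/-- A word moves each coordinate to the next, and the last to a multiple of the first. -/
def turnOK (C : Cod K q) (G : List (List ℕ)) (w : List ℕ) (c : ℕ) : Bool :=
  imgOK C G w [(0, eN C 1), (1, eN C 2), (2, eN C 3), (3, c)] && decide (0 < c) && decide (c < C.N)

theorem turn_window {w : List ℕ} {c : ℕ} (h : turnOK C G w c = true) (T : Subgroup (Cfsg.SU 4 K q))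
    (hw : ev (lt (genT hbase hF G hg hd)) w ∈ T) {i k : ℕ} (hi : i + k < 4)
    (hwin : (shift i k 4 (by omega)).range ≤ T) : (shift (i + 1) k 4 (by omega)).range ≤ T := by
  simp only [turnOK, Bool.and_eq_true, decide_eq_true_eq] at h
  obtain ⟨⟨hi', hc0⟩, hcN⟩ := h
  have hcne : C.ofN c ≠ 0 := fun e => by
    have h1 := C.toN_ofN c hcN
    rw [e, ← C.ofN_zero, C.toN_ofN 0 C.N_pos] at h1
    omega
  have hcv : C.vec 4 c = C.ofN c • (Pi.single 0 1 : Fin 4 → K) := by
    funext i
    rw [Pi.smul_apply, Pi.single_apply, Cod.vec]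
    by_cases hi0 : i = 0
    · subst hi0
      simp [Cod.dig, Nat.mod_eq_of_lt hcN]
    · rw [dig_eq_zero hbase hF 1 c i (by simpa using hcN)
        (Nat.one_le_iff_ne_zero.2 fun e => hi0 (Fin.ext e)), C.ofN_zero, if_neg hi0, smul_zero]
  set x := ev (lt (genT hbase hF G hg hd)) w
  have hstep : ∀ j : Fin 3, mat x *ᵥ (Pi.single j.castSucc 1 : Fin 4 → K) = Pi.single j.succ 1 := fun j => by
    obtain ⟨_, e⟩ := img_spec hbase hF G hg hd hi' (p := ((j : ℕ), eN C (j + 1))) (by fin_cases j <;> simp)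
    rw [show eN C ((j : ℕ) + 1) = eN C (j.succ : Fin 4) by simp, vec_eN hbase] at e
    exact e
  have hlast : mat x *ᵥ (Pi.single 3 1 : Fin 4 → K) = C.ofN c • Pi.single 0 1 := by
    obtain ⟨_, e⟩ := img_spec hbase hF G hg hd hi' (p := (3, c)) (by simp)
    rw [hcv] at e
    exact e
  rw [← turn_range hF x (C.ofN c) hstep hlast hcne hi]
  rintro _ ⟨g, hg', rfl⟩
  exact mul_mem (mul_mem hw (hwin hg')) (inv_mem hw)

omit hbase hF in
/-- The relators. -/
def relators (Cs : List Cert.Level) : List (FreeGroup (Fin 3)) :=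
  (rels Cs).map (ev (lt fun i => if h : i < 3 then FreeGroup.of ⟨i, h⟩ else 1))

set_option maxHeartbeats 1600000 in
/-- The presentation read off from a chain of levels. -/
theorem presN {D : Level} {Ds : List Level} {k : ℕ} (hW : D.W = [[0], [2], [4]])
    (hok : chainOK (D :: Ds) = true) (hk : (rels (D :: Ds)).length ≤ k)
    (hone : (rels (D :: Ds)).all (oneOK C G) = true)
    (hord : order (D :: Ds) ≤ Nat.card (Cfsg.SU 4 K q))
    (hgen : ∀ T : Subgroup (Cfsg.SU 4 K q), (∀ i < 3, genT hbase hF G hg hd i ∈ T) → T = ⊤) :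
    PresN (Cfsg.SU 4 K q) 3 k := by
  classical
  set f := gen hbase hF G hg hd with hfdef
  rw [List.all_eq_true] at hone
  have hlift : ∀ {H : Type} [Group H] (h : Fin 3 → H) (w : List ℕ),
      FreeGroup.lift h (ev (lt fun i => if hi : i < 3 then FreeGroup.of ⟨i, hi⟩ else 1) w) =
        ev (lt fun i => if hi : i < 3 then h ⟨i, hi⟩ else 1) w := by
    intro H _ h w
    rw [map_ev]
    congr 2
    funext i
    split_ifs <;> simp
  have hR : ∀ r ∈ relators (D :: Ds), FreeGroup.lift f r = 1 := by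
    intro r hr
    obtain ⟨w, hw, rfl⟩ := List.mem_map.1 hr
    rw [hlift f w]
    exact ev_eq_one hbase hF G hg hd (hone w hw)
  have hs : Function.Surjective (FreeGroup.lift f) := by
    rw [← MonoidHom.range_eq_top]
    refine hgen _ fun i hi => ⟨FreeGroup.of ⟨i, hi⟩, ?_⟩
    simp [genT, hi, hfdef]
  refine PresN.of_universal f (relators (D :: Ds)) (by simpa [relators] using hk) hR hs fun H _ h hh => ?_
  let R : Set (FreeGroup (Fin 3)) := {r | r ∈ relators (D :: Ds)}
  let π : PresentedGroup R →* Cfsg.SU 4 K q := PresentedGroup.toGroup (f := f) (fun r hr => hR r hr)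
  let ψ : PresentedGroup R →* H := PresentedGroup.toGroup (f := h) (fun r hr => hh r hr)
  have hπ : ∀ i, π (PresentedGroup.of i) = f i := fun i => PresentedGroup.toGroup.of _
  have hπs : Function.Surjective π := by
    rw [← MonoidHom.range_eq_top]
    refine hgen _ fun i hi => ⟨PresentedGroup.of ⟨i, hi⟩, ?_⟩
    simp [hπ, genT, hi, hfdef]
  let t : ℕ → PresentedGroup R := fun i => if hi : i < 3 then PresentedGroup.of ⟨i, hi⟩ else 1
  obtain ⟨hfin, hcard⟩ := chain_le t (D :: Ds) hok fun w hw => by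
    have h1 : PresentedGroup.mk R (ev (lt fun i => if hi : i < 3 then FreeGroup.of ⟨i, hi⟩ else 1) w) = 1 :=
      PresentedGroup.one_of_mem (List.mem_map.2 ⟨w, hw, rfl⟩)
    rw [map_ev] at h1
    refine Eq.trans ?_ h1
    congr 2
    funext i
    simp only [t]
    split_ifs <;> rfl
  have htop : top t (D :: Ds) = ⊤ := by
    rw [top, eq_top_iff, ← PresentedGroup.closure_range_of, Subgroup.closure_le]
    rintro _ ⟨i, rfl⟩
    refine Subgroup.subset_closure ⟨i, by simp [hW], ?_⟩
    fin_cases i <;> simp [Cert.sub, hW, ev, lt, t]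
  rw [htop] at hfin hcard
  have hfinP : Finite (PresentedGroup R) := Finite.of_equiv _ Subgroup.topEquiv.toEquiv
  rw [Nat.card_congr Subgroup.topEquiv.toEquiv] at hcard
  have hb : Function.Bijective π := hπs.bijective_of_nat_card_le (hcard.trans hord)
  refine ⟨ψ.comp (MulEquiv.ofBijective π hb).symm.toMonoidHom, fun i => ?_⟩
  have e : (MulEquiv.ofBijective π hb).symm (f i) = PresentedGroup.of i := by
    rw [MulEquiv.symm_apply_eq]; exact (hπ i).symm
  show ψ ((MulEquiv.ofBijective π hb).symm (f i)) = h i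
  rw [e]
  exact PresentedGroup.toGroup.of _

end Cfsg.Agent.ShortPres.SUGlue.Model
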