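import Cfsg.Agent.Lib.MonomialMult.Codes
import Cfsg.Agent.Lib.MonomialMult.FieldChange
import Cfsg.Agent.Lib.Phan.GlueTwo
import Cfsg.Agent.Lib.ShortPres.SUGlue.Model
import Cfsg.Agent.Lib.ShortPres.SUGlue.DataTwo
import Cfsg.Agent.Lib.ShortPres.SUGlue.DataThree

/-!
# Short presentations of `SU₄(2)` and `SU₄(3)`
-/

set_option autoImplicit false
set_option maxRecDepth 100000
set_option maxHeartbeats 0

namespace Cfsg.Agent.ShortPres.SUGlue.SmallFour

open Cfsg.Agent.MonomialMult Cfsg.Agent.Classical.Unitary Cfsg.Agent.Phan.Shift Cfsg.Agent.ShortPres.Bound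
open Cfsg.Agent.InvChar.Coset (FF)
open Cert Model

theorem chain_two : chainOK DataTwo.chain = true := by decide +kernel

theorem rels_two : (rels DataTwo.chain).all (oneOK cod4 DataTwo.gens) = true := by decide +kernel

theorem gens_two : gensOK cod4 DataTwo.gens = true := by decide +kernel

theorem det_two : ∀ i : Fin 3, (colMat cod4 (DataTwo.gens.getD (2 * i) [])).det = 1 := by decide +kernel

theorem words_two : transOK cod4 DataTwo.gens 1 DataTwo.two = true ∧
    transOK cod4 DataTwo.gens 2 DataTwo.three = true ∧
    turnOK cod4 DataTwo.gens DataTwo.turn 1 = true := by decide +kernel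

theorem chain_three : chainOK DataThree.chain = true := by decide +kernel

theorem rels_three : (rels DataThree.chain).all (oneOK cod9 DataThree.gens) = true := by decide +kernel

theorem gens_three : gensOK cod9 DataThree.gens = true := by decide +kernel

theorem det_three : ∀ i : Fin 3, (colMat cod9 (DataThree.gens.getD (2 * i) [])).det = 1 := by decide +kernel

theorem words_three : transOK cod9 DataThree.gens 1 DataThree.two = true ∧
    turnOK cod9 DataThree.gens DataThree.turn 2 = true := by decide +kernel

theorem trivial_one {K : Type} [Field K] [Fintype K] {q N : ℕ} (h : 0 + 1 ≤ N) (T : Subgroup (Cfsg.SU N K q)) :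
    (shift 0 1 N h).range ≤ T := by
  rintro _ ⟨a, rfl⟩
  rw [show a = 1 from Subtype.ext (Subtype.ext (Matrix.ext fun i j => by
    have hd : ((a : Matrix.SpecialLinearGroup (Fin 1) K) : Matrix (Fin 1) (Fin 1) K).det = 1 :=
      (a : Matrix.SpecialLinearGroup (Fin 1) K).2
    rw [Matrix.det_fin_one] at hd
    fin_cases i; fin_cases j
    simpa using hd)), map_one]
  exact one_mem T

theorem word_mem {K : Type} [Field K] {q : ℕ} {T : Subgroup (Cfsg.SU 4 K q)} {t : ℕ → Cfsg.SU 4 K q}
    (ht : ∀ i < 3, t i ∈ T) : ∀ w : List ℕ, (∀ y ∈ w, y < 6) → ev (lt t) w ∈ T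
  | [], _ => one_mem T
  | y :: w, h => by
    refine mul_mem (word_mem ht w fun z hz => h z (List.mem_cons_of_mem _ hz)) ?_
    have hy := h y List.mem_cons_self
    unfold lt
    split_ifs
    · exact ht _ (by omega)
    · exact inv_mem (ht _ (by omega))

theorem card_FF : Fintype.card FF = 2 ^ 2 := by rw [FF.card]; norm_num

theorem card_Nine : Fintype.card Nine = 3 ^ 2 := by rw [Nine.card]

/-- `SU₄(2)`. -/
theorem presN_two : PresN (Cfsg.SU 4 FF 2) 3 13 := by
  have hb : baseOK cod4 = true := by decide +kernel
  refine Model.presN hb card_FF DataTwo.gens gens_two det_two (D := DataTwo.level0)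
    (Ds := [DataTwo.level1, DataTwo.level2, DataTwo.level3]) rfl chain_two (by decide +kernel) rels_two ?_ ?_
  · have h := natCard_SU_mul (n := 4) (q := 2) (F := FF) card_FF (by norm_num)
    rw [natCard_GU card_FF] at h
    simp [Finset.prod_range_succ, Nat.even_iff] at h
    have ho : order DataTwo.chain = 25920 := by decide +kernel
    show order DataTwo.chain ≤ _
    omega
  · intro T hT
    have w2 := window_top hb card_FF DataTwo.gens gens_two det_two (M := 1) (by norm_num) words_two.1 T hT
      (trivial_one _ T)
    have w30 := window_top hb card_FF DataTwo.gens gens_two det_two (M := 2) (by norm_num) words_two.2.1 T hT w2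
    have ht : ∀ y ∈ DataTwo.turn, y < 6 := by decide +kernel
    have w31 := turn_window hb card_FF DataTwo.gens gens_two det_two words_two.2.2 T (word_mem hT _ ht)
      (i := 0) (k := 3) (by norm_num) w30
    refine eq_top_iff.2 fun g _ => Phan.GlueTwo.window_le card_FF T 4 0 (by norm_num) (by norm_num)
      (fun j hj _ _ => ?_) ⟨g, shift_self _ g⟩
    rcases (show j = 0 ∨ j = 1 by omega) with rfl | rfl
    · exact w30
    · exact w31

/-- `SU₄(3)`. -/
theorem presN_three : PresN (Cfsg.SU 4 Nine 3) 3 23 := by
  have hb : baseOK cod9 = true := by decide +kernel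
  refine Model.presN hb card_Nine DataThree.gens gens_three det_three (D := DataThree.level0)
    (Ds := [DataThree.level1, DataThree.level2, DataThree.level3]) rfl chain_three (by decide +kernel) rels_three
    ?_ ?_
  · have h := natCard_SU_mul (n := 4) (q := 3) (F := Nine) card_Nine (by norm_num)
    rw [natCard_GU card_Nine] at h
    simp [Finset.prod_range_succ, Nat.even_iff] at h
    have ho : order DataThree.chain = 13063680 := by decide +kernel
    show order DataThree.chain ≤ _
    omega
  · intro T hT
    have w0 := window_top hb card_Nine DataThree.gens gens_three det_three (M := 1) (by norm_num) words_three.1 T hT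
      (trivial_one _ T)
    have ht : ∀ y ∈ DataThree.turn, y < 6 := by decide +kernel
    have w1 := turn_window hb card_Nine DataThree.gens gens_three det_three words_three.2 T (word_mem hT _ ht)
      (i := 0) (k := 2) (by norm_num) w0
    have w2 := turn_window hb card_Nine DataThree.gens gens_three det_three words_three.2 T (word_mem hT _ ht)
      (i := 1) (k := 2) (by norm_num) w1
    refine windows_top card_Nine (by norm_num) (by norm_num) T fun j hj => ?_
    rcases (show j = 0 ∨ j = 1 ∨ j = 2 by omega) with rfl | rfl | rfl
    · exact w0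
    · exact w1
    · exact w2

/-- The same over any field of that order. -/
theorem exists_presN {F : Type*} [Field F] [Fintype F] {q : ℕ} (hF : Fintype.card F = q ^ 2) (h : q = 2 ∨ q = 3) :
    PresN (Cfsg.SU 4 F q) 3 (if q = 2 then 13 else 23) := by
  rcases h with rfl | rfl
  · exact presN_two.congr (suFieldMap (FiniteField.ringEquivOfCardEq (card_FF.trans hF.symm)))
  · exact presN_three.congr (suFieldMap (FiniteField.ringEquivOfCardEq (card_Nine.trans hF.symm)))

end Cfsg.Agent.ShortPres.SUGlue.SmallFour
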