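import Cfsg.Agent.Lib.ShortPres.SUGlue.Perm
import Cfsg.Agent.Lib.MonomialMult.Codes
import Cfsg.Agent.Lib.MonomialMult.FieldChange
import Cfsg.Agent.Lib.ShortPres.SUGlue.DataWindow
import Cfsg.Agent.Lib.ShortPres.SUGlue.SmallFour

/-!
# Over the field with four elements: all permutation matrices, and two generators of `SU₃(2)`
-/

set_option autoImplicit false
set_option linter.unusedSectionVars false

namespace Cfsg.Agent.ShortPres.SUGlue

open Equiv Matrix Cfsg.Agent.Forms Cfsg.Agent.Classical Cfsg.Agent.Classical.Unitary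
open Cfsg.Agent.Phan.Shift

universe u

variable {F : Type u} [Field F] [Fintype F] {n : ℕ} (hF : Fintype.card F = 2 ^ 2)

include hF

theorem neg_one_two : (-1 : F) = 1 := by
  have e : ((2 : F)) ^ 2 = 2 := by
    rw [← HermStd.qHom_apply hF, map_ofNat]
  have h2 : (2 : F) * ((2 : F) - 1) = 0 := by linear_combination e
  rw [show (2 : F) - 1 = 1 by norm_num, mul_one] at h2
  linear_combination (-1 : F) * h2

/-- The permutation matrices. -/
noncomputable def pS (n : ℕ) : Perm (Fin n) →* Cfsg.SU n F 2 where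
  toFun σ := suMk ((σ⁻¹).permMatrix F)
    (by
      rw [Matrix.det_permutation, map_inv]
      rcases Int.units_eq_one_or (Perm.sign σ) with e | e
      · rw [e]; simp
      · rw [e]; simpa using neg_one_two hF)
    (fun u v => by
      rw [permMat_mulVec, permMat_mulVec]
      exact Equiv.sum_comp σ⁻¹ (fun i => u i * v i ^ 2))
  map_one' := SU_ext fun x => by
    rw [suMk_mulVec, permMat_mulVec, mat_one, Matrix.one_mulVec]
    funext j
    simp
  map_mul' σ τ := SU_ext fun x => by
    rw [suMk_mulVec, permMat_mulVec, mul_mulVec, suMk_mulVec, suMk_mulVec, permMat_mulVec, permMat_mulVec]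
    funext j
    simp

theorem pS_mulVec (σ : Perm (Fin n)) (x : Fin n → F) (j : Fin n) :
    (mat (pS hF n σ) *ᵥ x) j = x (σ⁻¹ j) := by
  show ((σ⁻¹).permMatrix F *ᵥ x) j = _
  rw [permMat_mulVec]
  rfl

theorem pS_single (σ : Perm (Fin n)) (j : Fin n) :
    mat (pS hF n σ) *ᵥ (Pi.single j 1 : Fin n → F) = Pi.single (σ j) 1 := by
  funext l
  rw [pS_mulVec]
  simp only [Pi.single_apply, Perm.inv_eq_iff_eq]

/-- Conjugating a window by a permutation which moves it to another window. -/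
theorem conj_shiftS {i i' k : ℕ} (h : i + k ≤ n) (h' : i' + k ≤ n) (σ : Perm (Fin n))
    (hσ : ∀ l : Fin k, σ ⟨i + l, by omega⟩ = ⟨i' + l, by omega⟩) (g : Cfsg.SU k F 2) :
    pS hF n σ * shift i k n h g * (pS hF n σ)⁻¹ = shift i' k n h' g := by
  rw [mul_inv_eq_iff_eq_mul]
  refine SU_ext fun x => ?_
  funext j
  have hsymm : ∀ l : Fin k, σ⁻¹ ⟨i' + l, by omega⟩ = ⟨i + l, by omega⟩ := fun l => by
    rw [← hσ l]; simp
  rw [mul_mulVec, mul_mulVec, pS_mulVec, shift_apply, shift_apply]
  by_cases hj : i' ≤ (j : ℕ) ∧ (j : ℕ) < i' + k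
  · have e : σ⁻¹ j = ⟨i + (j - i'), by omega⟩ := by
      have := hsymm ⟨j - i', by omega⟩
      rwa [show (⟨i' + (j - i'), by omega⟩ : Fin n) = j from Fin.ext (by simp; omega)] at this
    rw [e, dif_pos hj, dif_pos (by simp; omega)]
    have el : (fun l : Fin k => (mat (pS hF n σ) *ᵥ x) ⟨i' + l, by omega⟩) = fun l : Fin k => x ⟨i + l, by omega⟩ := by
      funext l; rw [pS_mulVec, hsymm]
    rw [el]
    congr 1
    exact Fin.ext (by simp)
  · have hn : ¬ (i ≤ ((σ⁻¹ j : Fin n) : ℕ) ∧ ((σ⁻¹ j : Fin n) : ℕ) < i + k) := by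
      intro hc
      apply hj
      have hy : σ (σ⁻¹ j) = j := σ.apply_symm_apply j
      generalize σ⁻¹ j = y at hc hy
      have e := hσ ⟨(y : ℕ) - i, by omega⟩
      have ey : (⟨i + ((y : ℕ) - i), by omega⟩ : Fin n) = y := Fin.ext (by show i + ((y : ℕ) - i) = y; omega)
      dsimp only at e
      rw [ey, hy] at e
      have : (j : ℕ) = i' + ((y : ℕ) - i) := congrArg Fin.val e
      omega
    rw [dif_neg hn, dif_neg hj, pS_mulVec]

/-- Conjugating a window by a permutation which moves its points into another window. -/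
theorem conj_shiftS_mem {i i' k : ℕ} (h : i + k ≤ n) (h' : i' + k ≤ n)
    (σ : Perm (Fin n))
    (hσ : ∀ l : Fin k, i' ≤ (σ ⟨i + l, by omega⟩ : ℕ) ∧ (σ ⟨i + l, by omega⟩ : ℕ) < i' + k)
    (g : Cfsg.SU k F 2) :
    pS hF n σ * shift i k n h g * (pS hF n σ)⁻¹ ∈ (shift i' k n h').range := by
  rw [mem_range hF]
  intro j hj
  have hy : ¬ (i ≤ ((σ⁻¹ j : Fin n) : ℕ) ∧ ((σ⁻¹ j : Fin n) : ℕ) < i + k) := by
    intro hc
    apply hj
    have ey : σ (σ⁻¹ j) = j := σ.apply_symm_apply j
    generalize σ⁻¹ j = y at hc ey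
    have := hσ ⟨(y : ℕ) - i, by omega⟩
    have e : (⟨i + ((y : ℕ) - i), by omega⟩ : Fin n) = y := Fin.ext (Nat.add_sub_cancel' hc.1)
    dsimp only at this
    rwa [e, ey] at this
  rw [← map_inv, mul_mulVec, mul_mulVec, pS_single]
  show mat _ *ᵥ (mat _ *ᵥ (Pi.single (σ⁻¹ j) 1 : Fin n → F)) = _
  rw [show σ⁻¹ j = σ⁻¹ j from rfl, shift_outside h g hy, pS_single,
    show σ (σ⁻¹ j) = j from σ.apply_symm_apply j]

/-- A permutation of the first coordinates is the window of its matrix. -/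
theorem pS_window {b : ℕ} (h : 0 + b ≤ n) (σ : Perm (Fin n)) (τ : Perm (Fin b))
    (hin : ∀ l : Fin b, σ ⟨l, by omega⟩ = ⟨τ l, by omega⟩)
    (hout : ∀ j : Fin n, b ≤ (j : ℕ) → σ j = j) :
    pS hF n σ = shift 0 b n h (pS hF b τ) := by
  refine SU_ext fun x => funext fun j => ?_
  rw [pS_mulVec, shift_apply]
  by_cases hj : (j : ℕ) < b
  · rw [dif_pos ⟨Nat.zero_le _, by omega⟩, pS_mulVec]
    congr 1
    rw [Perm.inv_eq_iff_eq]
    have := hin (τ⁻¹ ⟨j, hj⟩)
    simp at this
    refine Eq.trans ?_ ((congrArg σ (Fin.ext (by simp))).trans this).symm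
    exact Fin.ext rfl
  · rw [dif_neg (by omega)]
    congr 1
    rw [Perm.inv_eq_iff_eq]
    exact (hout j (by omega)).symm


omit hF in
/-- A permutation fixing the first `k` points comes from the others. -/
theorem exists_rest {k : ℕ} (e : Fin (n - k) ↪ Fin n) (he : ∀ l, (e l : ℕ) = l + k) (g : Perm (Fin n))
    (hg : ∀ j : Fin n, (j : ℕ) < k → g j = j) : ∃ s : Perm (Fin (n - k)), Perm.viaEmbeddingHom e s = g := by
  have hge : ∀ j : Fin n, k ≤ (j : ℕ) → k ≤ (g j : ℕ) := fun j hj => by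
    by_contra hlt
    have h1 := g.injective (hg (g j) (by omega))
    have h2 := congrArg Fin.val h1
    omega
  have hex : ∀ l : Fin (n - k), ∃ r : Fin (n - k), e r = g (e l) := fun l => by
    have := hge (e l) (by rw [he]; omega)
    exact ⟨⟨(g (e l) : ℕ) - k, by omega⟩, Fin.ext (by rw [he]; simp; omega)⟩
  choose r hr using hex
  have hinj : Function.Injective r := fun a b h => e.injective (g.injective (by rw [← hr, ← hr, h]))
  refine ⟨Equiv.ofBijective r (Finite.injective_iff_bijective.1 hinj), Equiv.ext fun j => ?_⟩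
  rw [Perm.viaEmbeddingHom_apply]
  by_cases hj : k ≤ (j : ℕ)
  · obtain ⟨l, rfl⟩ : ∃ l, e l = j := ⟨⟨(j : ℕ) - k, by omega⟩, Fin.ext (by rw [he]; simp; omega)⟩
    rw [Perm.viaEmbedding_apply]
    exact hr l
  · rw [Perm.viaEmbedding_apply_of_notMem _ _ _ (by rintro ⟨l, rfl⟩; rw [he] at hj; omega), hg j (by omega)]

open Cfsg.Agent.MonomialMult Cfsg.Agent.InvChar.Coset Model in
omit hF in
/-- The two generators over the model of the field. -/
theorem two_gen_three_FF : ∃ x : Fin 2 → Cfsg.SU 3 FF 2, Subgroup.closure (Set.range x) = ⊤ := by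
  have hb : baseOK cod4 = true := by decide +kernel
  have hg : gensOK cod4 DataWindow.gens = true := by decide +kernel
  have hd : ∀ i : Fin 3, (colMat cod4 (DataWindow.gens.getD (2 * i) [])).det = 1 := by decide +kernel
  have hfix : ∀ x < 6, imgOK cod4 DataWindow.gens [x] [(3, eN cod4 3)] = true := by decide +kernel
  have h2 : transOK cod4 DataWindow.gens 1 DataWindow.two = true := by decide +kernel
  have h3 : transOK cod4 DataWindow.gens 2 DataWindow.three = true := by decide +kernel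
  have hr : ∀ i < 3, genT hb SmallFour.card_FF DataWindow.gens hg hd i ∈
      (shift (F := FF) (q := 2) 0 3 4 (by omega)).range := by
    intro i hi
    rw [mem_range SmallFour.card_FF]
    intro j hj
    obtain rfl : j = 3 := Fin.ext (by simp at hj ⊢; omega)
    obtain ⟨_, e⟩ := img_spec hb SmallFour.card_FF DataWindow.gens hg hd (hfix (2 * i) (by omega))
      (p := (3, eN cod4 3)) List.mem_cons_self
    rw [show eN cod4 3 = eN cod4 ((3 : Fin 4) : ℕ) from rfl, vec_eN hb] at e
    simpa [Cert.ev, Cert.lt, show 2 * i / 2 = i by omega] using e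
  obtain ⟨x0, hx0⟩ := hr 0 (by norm_num)
  obtain ⟨x1, hx1⟩ := hr 1 (by norm_num)
  refine ⟨![x0, x1], ?_⟩
  set T := (Subgroup.closure (Set.range ![x0, x1])).map (shift (F := FF) (q := 2) 0 3 4 (by omega))
  have hT : ∀ i < 3, genT hb SmallFour.card_FF DataWindow.gens hg hd i ∈ T := by
    intro i hi
    rcases (show i = 0 ∨ i = 1 ∨ i = 2 by omega) with rfl | rfl | rfl
    · exact ⟨x0, Subgroup.subset_closure ⟨0, rfl⟩, hx0⟩
    · exact ⟨x1, Subgroup.subset_closure ⟨1, rfl⟩, hx1⟩
    · have : genT hb SmallFour.card_FF DataWindow.gens hg hd 2 = 1 := by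
        have h1 : oneOK cod4 DataWindow.gens [4] = true := by decide +kernel
        simpa [Cert.ev, Cert.lt] using ev_eq_one hb SmallFour.card_FF DataWindow.gens hg hd h1
      rw [this]; exact one_mem T
  have w2 := window_top hb SmallFour.card_FF DataWindow.gens hg hd (M := 1) (by norm_num) h2 T hT
    (SmallFour.trivial_one _ T)
  have w3 := window_top hb SmallFour.card_FF DataWindow.gens hg hd (M := 2) (by norm_num) h3 T hT w2
  refine eq_top_iff.2 fun a _ => ?_
  obtain ⟨b, hb', e⟩ := w3 ⟨a, rfl⟩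
  rwa [← shift_injective _ SmallFour.card_FF e]

/-- `SU₃(2)` is generated by two elements. -/
theorem two_gen_three : ∃ x : Fin 2 → Cfsg.SU 3 F 2, Subgroup.closure (Set.range x) = ⊤ := by
  classical
  suffices key : ∃ x : Fin 2 → Cfsg.SU 3 Cfsg.Agent.InvChar.Coset.FF 2, Subgroup.closure (Set.range x) = ⊤ by
    obtain ⟨x, hx⟩ := key
    let f : Cfsg.SU 3 Cfsg.Agent.InvChar.Coset.FF 2 ≃* Cfsg.SU 3 F 2 :=
      Cfsg.Agent.MonomialMult.suFieldMap (FiniteField.ringEquivOfCardEq (SmallFour.card_FF.trans hF.symm))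
    refine ⟨fun i => f (x i), ?_⟩
    rw [show Set.range (fun i => f (x i)) = f.toMonoidHom '' Set.range x from Set.range_comp f x,
      ← MonoidHom.map_closure, hx, ← MonoidHom.range_eq_map, MonoidHom.range_eq_top]
    exact f.surjective
  exact two_gen_three_FF

end Cfsg.Agent.ShortPres.SUGlue
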