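import Cfsg.Agent.Lib.ShortPres.Seven.Small
import Cfsg.Agent.Lib.ShortPres.SUGlue.Large
import Cfsg.Agent.Lib.ShortPres.SUGlue.PermTwo
import Cfsg.Agent.Lib.Phan.GlueTwo

/-!
# A symmetric group and `SU₄(2)` give `SU_n(2)` with few relations, `n ≥ 5`
-/

set_option autoImplicit false
set_option linter.unusedSectionVars false

namespace Cfsg.Agent.ShortPres.SUGlue

open Equiv Monoid Matrix Cfsg.Agent.ShortPres.Bound Cfsg.Agent.Forms Cfsg.Agent.Classical
  Cfsg.Agent.Classical.Unitary Cfsg.Agent.Phan.Shift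

universe u

/-- Commutation of two images, from generators of each. -/
theorem commute_two {S T H : Type*} [Group S] [Group T] [Group H] {ι κ : Type*} {x : ι → S} {y : κ → T}
    (hx : Subgroup.closure (Set.range x) = ⊤) (hy : Subgroup.closure (Set.range y) = ⊤) (f : S →* H) (g : T →* H)
    (h : ∀ a b, Commute (f (x a)) (g (y b))) (X : S) (Y : T) : Commute (f X) (g Y) := by
  have h1 : ∀ b, Commute (f X) (g (y b)) := fun b => by
    have : Subgroup.closure (Set.range x) ≤ (Subgroup.centralizer ({g (y b)} : Set H)).comap f := by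
      rw [Subgroup.closure_le]
      rintro _ ⟨a, rfl⟩
      exact Subgroup.mem_centralizer_singleton_iff.2 (h a b).eq
    exact Subgroup.mem_centralizer_singleton_iff.1 (this (hx ▸ Subgroup.mem_top X))
  have : Subgroup.closure (Set.range y) ≤ (Subgroup.centralizer ({f X} : Set H)).comap g := by
    rw [Subgroup.closure_le]
    rintro _ ⟨b, rfl⟩
    exact Subgroup.mem_centralizer_singleton_iff.2 (h1 b).symm.eq
  exact (show Commute (g Y) (f X) from
    Subgroup.mem_centralizer_singleton_iff.1 (this (hy ▸ Subgroup.mem_top Y))).symm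

/-- A permutation with prescribed values on the first points. -/
theorem exists_win {n : ℕ} {k : ℕ} (hk : k ≤ n) (i : ℕ) (hi : i + k ≤ n) :
    ∃ σ : Perm (Fin n), ∀ l : Fin k, σ ⟨l, by omega⟩ = ⟨i + l, by omega⟩ :=
  Alt.exists_send (fun l : Fin k => (⟨l, by omega⟩ : Fin n)) (fun l : Fin k => ⟨i + l, by omega⟩)
    (fun a b h => Fin.ext (congrArg Fin.val h :)) (fun a b h => Fin.ext (by simpa using congrArg Fin.val h))

variable {F : Type u} [Field F] [Fintype F] {n : ℕ} (hF : Fintype.card F = 2 ^ 2)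

include hF

set_option maxHeartbeats 1600000 in
/-- The count. -/
theorem pres_two (hn : 5 ≤ n) {b kB : ℕ} (hB : PresN (Cfsg.SU 4 F 2) b kB) :
    PresN (Cfsg.SU n F 2) (2 + b) (8 + kB + (10 + if 6 ≤ n then 4 else 0)) := by
  classical
  obtain ⟨m, rfl⟩ : ∃ m, n = m + 1 := ⟨n - 1, by omega⟩
  obtain ⟨gA, hA⟩ := Seven.two_sym (m + 1)
  obtain ⟨gS, hS⟩ := Seven.two_sym (m + 1 - 3)
  have hS' : Subgroup.closure (Set.range gS) = ⊤ := by
    obtain ⟨R, -, -, hs, -⟩ := hS
    rw [← FreeGroup.range_lift_eq_closure, MonoidHom.range_eq_top]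
    exact hs
  obtain ⟨x, hx⟩ := two_gen_two hF
  obtain ⟨y, hy⟩ := two_gen_three hF
  let iA : Perm (Fin (m + 1)) →* Cfsg.SU (m + 1) F 2 := pS hF (m + 1)
  let iB : Cfsg.SU 4 F 2 →* Cfsg.SU (m + 1) F 2 := shift 0 4 (m + 1) (by omega)
  let p : Fin 4 → Fin (m + 1) := fun l => ⟨l, by omega⟩
  let e4 : Fin 4 ↪ Fin (m + 1) := ⟨p, fun i j h => by simpa [p, Fin.ext_iff] using h⟩
  let e3 : Fin (m + 1 - 3) ↪ Fin (m + 1) :=
    ⟨fun i => ⟨i + 3, by omega⟩, fun i j h => by simpa [Fin.ext_iff] using h⟩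
  let v4 := Perm.viaEmbeddingHom e4
  let v3 := Perm.viaEmbeddingHom e3
  have hv4 : ∀ z (l : Fin 4), v4 z (p l) = p (z l) := fun z l => Perm.viaEmbedding_apply z e4 l
  have hv4out : ∀ z (j : Fin (m + 1)), 4 ≤ (j : ℕ) → v4 z j = j := fun z j hj =>
    Perm.viaEmbedding_apply_of_notMem z e4 j (by
      rintro ⟨w, hw⟩; have := congrArg Fin.val hw; change (w : ℕ) = (j : ℕ) at this; omega)
  have hv3 : ∀ z (j : Fin (m + 1)), (j : ℕ) < 3 → v3 z j = j := fun z j hj =>
    Perm.viaEmbedding_apply_of_notMem z e3 j (by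
      rintro ⟨w, hw⟩; have := congrArg Fin.val hw; change (w : ℕ) + 3 = (j : ℕ) at this; omega)
  have hP4 : ∀ z, iA (v4 z) = iB (pS hF 4 z) := fun z =>
    pS_window hF (by omega) _ z (fun l => hv4 z l) (hv4out z)
  obtain ⟨t2, ht2⟩ := exists_win (n := m + 1) (k := 3) (by omega) 2 (by omega)
  obtain ⟨t3, ht3⟩ : ∃ t : Perm (Fin (m + 1)), ∀ (h : 6 ≤ m + 1) (l : Fin 3), t ⟨l, by omega⟩ = ⟨3 + l, by omega⟩ := by
    by_cases h : 6 ≤ m + 1
    · obtain ⟨t, ht⟩ := exists_win (n := m + 1) (k := 3) (by omega) 3 (by omega)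
      exact ⟨t, fun _ => ht⟩
    · exact ⟨1, fun h' => absurd h' h⟩
  -- the relators
  let jA : Perm (Fin (m + 1)) →* Coprod (Perm (Fin (m + 1))) (Cfsg.SU 4 F 2) := Coprod.inl
  let jB : Cfsg.SU 4 F 2 →* Coprod (Perm (Fin (m + 1))) (Cfsg.SU 4 F 2) := Coprod.inr
  let X : Fin 2 → Coprod (Perm (Fin (m + 1))) (Cfsg.SU 4 F 2) := fun i => jB (shift 0 2 4 (by omega) (x i))
  let Y : Fin 2 → Coprod (Perm (Fin (m + 1))) (Cfsg.SU 4 F 2) := fun i => jB (shift 0 3 4 (by omega) (y i))
  let com := fun (u v : Coprod (Perm (Fin (m + 1))) (Cfsg.SU 4 F 2)) => u * v * u⁻¹ * v⁻¹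
  let idn := fun z : Perm (Fin 4) => jA (v4 z) * (jB (pS hF 4 z))⁻¹
  let cY := fun (t : Perm (Fin (m + 1))) (i : Fin 2) => jA t * Y i * (jA t)⁻¹
  let E := idn (swap 0 1) :: idn (finRotate 4) ::
    (List.ofFn (fun i : Fin 2 => com (jA (v3 (gS 0))) (Y i)) ++
    List.ofFn (fun i : Fin 2 => com (jA (v3 (gS 1))) (Y i)) ++
    List.ofFn (fun i : Fin 2 => com (X 0) (cY t2 i)) ++ List.ofFn (fun i : Fin 2 => com (X 1) (cY t2 i)) ++
    if 6 ≤ m + 1 then List.ofFn (fun i : Fin 2 => com (Y 0) (cY t3 i)) ++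
      List.ofFn (fun i : Fin 2 => com (Y 1) (cY t3 i)) else [])
  refine (PresN.glue hA.presN hB iA iB ?_ E ?_ ?_).mono (by
    simp only [E, List.length_cons, List.length_append, List.length_ofFn]
    split_ifs <;> simp <;> omega)
  · refine eq_top_iff.2 fun g _ => Phan.GlueTwo.window_le hF _ (m + 1) 0 (by omega) (by omega)
      (fun j hj _ _ => ?_) ⟨g, shift_self _ g⟩
    rintro _ ⟨a, rfl⟩
    obtain ⟨σ, hσ⟩ := exists_win (n := m + 1) (k := 3) (by omega) j hj
    rw [← conj_shiftS hF (i := 0) (by omega) hj σ (fun l => by simpa using hσ l) a]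
    have e : shift 0 3 (m + 1) (by omega) a = iB (shift 0 3 4 (by omega) a) := by simp only [iB, shift_comp]
    rw [e]
    exact mul_mem (mul_mem (Subgroup.mem_sup_left ⟨σ, rfl⟩) (Subgroup.mem_sup_right ⟨_, rfl⟩))
      (inv_mem (Subgroup.mem_sup_left ⟨σ, rfl⟩))
  · have hcom : ∀ u v, Commute (Coprod.lift iA iB u) (Coprod.lift iA iB v) →
        Coprod.lift iA iB (com u v) = 1 := fun u v h => by
      simp only [com, map_mul, map_inv]; rw [h.eq]; group
    have hidn : ∀ z, Coprod.lift iA iB (idn z) = 1 := fun z => by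
      rw [map_mul, map_inv, Coprod.lift_apply_inl, Coprod.lift_apply_inr, hP4, mul_inv_cancel]
    have hfix : ∀ s i, Coprod.lift iA iB (com (jA (v3 s)) (Y i)) = 1 := fun s i => hcom _ _ <| by
      simp only [Y, jA, jB, Coprod.lift_apply_inl, Coprod.lift_apply_inr, iB, shift_comp, Nat.zero_add]
      refine mul_inv_eq_iff_eq_mul.1 (conj_shiftS hF _ _ _ (fun l => ?_) _)
      exact hv3 s _ (by simp)
    have hconj : ∀ (c : ℕ) (hc : c + 3 ≤ m + 1) (t : Perm (Fin (m + 1))),
        (∀ l : Fin 3, t ⟨l, by omega⟩ = ⟨c + l, by omega⟩) → ∀ i,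
        Coprod.lift iA iB (cY t i) = shift c 3 (m + 1) hc (y i) := fun c hc t ht i => by
      simp only [cY, Y, jA, jB, map_mul, map_inv, Coprod.lift_apply_inl, Coprod.lift_apply_inr, iB, shift_comp,
        Nat.zero_add]
      exact conj_shiftS hF _ _ _ (fun l => by simpa using ht l) _
    intro r hr
    simp only [E, List.mem_cons, List.mem_append] at hr
    rcases hr with rfl | rfl | (((hr | hr) | hr) | hr) | hr
    · exact hidn _
    · exact hidn _
    · obtain ⟨i, rfl⟩ := List.mem_ofFn.1 hr; exact hfix _ i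
    · obtain ⟨i, rfl⟩ := List.mem_ofFn.1 hr; exact hfix _ i
    · obtain ⟨i, rfl⟩ := List.mem_ofFn.1 hr
      refine hcom _ _ ?_
      rw [hconj 2 (by omega) t2 ht2]
      simp only [X, jB, Coprod.lift_apply_inr, iB, shift_comp, Nat.zero_add]
      exact shift_commute _ _ (by omega) _ _
    · obtain ⟨i, rfl⟩ := List.mem_ofFn.1 hr
      refine hcom _ _ ?_
      rw [hconj 2 (by omega) t2 ht2]
      simp only [X, jB, Coprod.lift_apply_inr, iB, shift_comp, Nat.zero_add]
      exact shift_commute _ _ (by omega) _ _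
    · split_ifs at hr with h6
      · rcases List.mem_append.1 hr with hr | hr <;>
        · obtain ⟨i, rfl⟩ := List.mem_ofFn.1 hr
          refine hcom _ _ ?_
          rw [hconj 3 (by omega) t3 (ht3 h6)]
          simp only [Y, jB, Coprod.lift_apply_inr, iB, shift_comp, Nat.zero_add]
          exact shift_commute _ _ (by omega) _ _
      · simp at hr
  intro H _ α β hE
  let ψ0 : Cfsg.SU 3 F 2 →* H := β.comp (shift 0 3 4 (by omega))
  let u0 : Cfsg.SU 2 F 2 →* H := β.comp (shift 0 2 4 (by omega))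
  have hcomE : ∀ u v, com u v ∈ E → Commute (Coprod.lift α β u) (Coprod.lift α β v) := fun u v h => by
    have := hE _ h
    simp only [com, map_mul, map_inv] at this
    exact mul_inv_eq_iff_eq_mul.1 (mul_inv_eq_one.1 this)
  have hL3 : ∀ a, ψ0 (shift 0 2 3 (by omega) a) = u0 a := fun a => by
    show β _ = β _
    rw [shift_comp]
  have R4 : ∀ z, α (v4 z) = β (pS hF 4 z) := by
    have hid : ∀ z, idn z ∈ E → α (v4 z) = β (pS hF 4 z) := fun z hz => by
      have := hE _ hz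
      rwa [map_mul, map_inv, Coprod.lift_apply_inl, Coprod.lift_apply_inr, mul_inv_eq_one] at this
    have htop : Subgroup.closure ({finRotate 4, swap (0 : Fin 4) (finRotate 4 0)} : Set (Perm (Fin 4))) = ⊤ :=
      Perm.closure_cycle_adjacent_swap (isCycle_finRotate (n := 2)) support_finRotate 0
    intro z
    have : α.comp v4 = β.comp (pS hF 4) := MonoidHom.eq_of_eqOn_dense htop (by
      rintro w (rfl | rfl)
      · exact hid _ (by simp [E])
      · exact hid _ (by
          rw [show finRotate 4 (0 : Fin 4) = 1 by decide]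
          simp [E]))
    exact DFunLike.congr_fun this z
  -- stabilisers
  let cj : Perm (Fin (m + 1)) → (Cfsg.SU 3 F 2 →* H) := fun σ => (MulAut.conj (α σ)).toMonoidHom.comp ψ0
  let cj2 : Perm (Fin (m + 1)) → (Cfsg.SU 2 F 2 →* H) := fun σ => (MulAut.conj (α σ)).toMonoidHom.comp u0
  have cj_def : ∀ σ a, cj σ a = α σ * ψ0 a * (α σ)⁻¹ := fun σ a => rfl
  have cj2_def : ∀ σ a, cj2 σ a = α σ * u0 a * (α σ)⁻¹ := fun σ a => rfl
  have hY : ∀ i, Coprod.lift α β (Y i) = ψ0 (y i) := fun i => Coprod.lift_apply_inr _ _ _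
  have hX : ∀ i, Coprod.lift α β (X i) = u0 (x i) := fun i => Coprod.lift_apply_inr _ _ _
  have hcY : ∀ t i, Coprod.lift α β (cY t i) = cj t (y i) := fun t i => by
    simp only [cY, map_mul, map_inv, hY, jA, Coprod.lift_apply_inl]
    rfl
  have hstab3 : ∀ g : Perm (Fin (m + 1)), (∀ j : Fin (m + 1), (j : ℕ) < 3 → g j = j) → ∀ a,
      Commute (α g) (ψ0 a) := by
    intro g hg a
    obtain ⟨s, rfl⟩ := exists_rest (k := 3) e3 (fun l => rfl) g hg
    refine commute_two hS' hy (α.comp v3) ψ0 (fun i c => ?_) s a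
    have := hcomE (jA (v3 (gS i))) (Y c) (by fin_cases i <;> fin_cases c <;> simp [E])
    rwa [hY, show Coprod.lift α β (jA (v3 (gS i))) = α _ from Coprod.lift_apply_inl _ _ _] at this
  have hstab2 : ∀ g : Perm (Fin (m + 1)), g (p 0) = p 0 → g (p 1) = p 1 → ∀ a, Commute (α g) (u0 a) := by
    have h3 : ∀ g : Perm (Fin (m + 1)), g (p 0) = p 0 → g (p 1) = p 1 → g (p 2) = p 2 → ∀ a,
        Commute (α g) (u0 a) := fun g h0 h1 h2 a => by
      rw [← hL3]
      refine hstab3 g (fun j hj => ?_) _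
      rcases (show (j : ℕ) = 0 ∨ (j : ℕ) = 1 ∨ (j : ℕ) = 2 by omega) with h | h | h
      · rw [show j = p 0 from Fin.ext h]; exact h0
      · rw [show j = p 1 from Fin.ext h]; exact h1
      · rw [show j = p 2 from Fin.ext h]; exact h2
    have h23 : ∀ a, Commute (α (v4 (swap 2 3))) (u0 a) := fun a => by
      rw [R4]
      refine Commute.map (f := β) (mul_inv_eq_iff_eq_mul.1 (conj_shiftS hF _ _ _ (fun l => ?_) _))
      fin_cases l <;> simp [swap_apply_def, Fin.ext_iff]
    intro g h0 h1 a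
    have hne : ∀ l : Fin 4, (l : ℕ) < 2 → g (p 2) ≠ p l := fun l hl e => by
      rcases (show l = 0 ∨ l = 1 by omega) with rfl | rfl
      · exact absurd (congrArg Fin.val (g.injective (e.trans h0.symm))) (by simp [p])
      · exact absurd (congrArg Fin.val (g.injective (e.trans h1.symm))) (by simp [p])
    by_cases h2 : g (p 2) = p 2
    · exact h3 g h0 h1 h2 a
    let h := swap (p 3) (g (p 2))
    have hfix : ∀ l : Fin 4, (l : ℕ) < 3 → h (p l) = p l := fun l hl =>
      swap_apply_of_ne_of_ne (by simp [p, Fin.ext_iff]; omega) fun e => by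
        rcases (show (l : ℕ) < 2 ∨ l = 2 by omega) with hl' | rfl
        · exact hne l hl' e.symm
        · exact h2 e.symm
    let s := v4 (swap 2 3) * h * g
    have hs : ∀ a, Commute (α s) (u0 a) := h3 s
      (by show v4 _ (h (g (p 0))) = _; rw [h0, hfix 0 (by decide), hv4]; rfl)
      (by show v4 _ (h (g (p 1))) = _; rw [h1, hfix 1 (by decide), hv4]; rfl)
      (by show v4 _ (h (g (p 2))) = _; rw [show h (g (p 2)) = p 3 from swap_apply_right _ _, hv4]; rfl)
    rw [show g = h⁻¹ * (v4 (swap 2 3))⁻¹ * s by simp only [s]; group, map_mul, map_mul, map_inv, map_inv]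
    exact (((h3 h (hfix 0 (by decide)) (hfix 1 (by decide)) (hfix 2 (by decide)) a).inv_left).mul_left
      (h23 a).inv_left).mul_left (hs a)
  have conj_eq : ∀ (σ σ' : Perm (Fin (m + 1))) (z : H), Commute (α (σ'⁻¹ * σ)) z →
      α σ * z * (α σ)⁻¹ = α σ' * z * (α σ')⁻¹ := by
    intro σ σ' z h
    have e : α σ = α σ' * α (σ'⁻¹ * σ) := by rw [← map_mul, mul_inv_cancel_left]
    rw [e, _root_.mul_inv_rev, show α σ' * α (σ'⁻¹ * σ) * z * ((α (σ'⁻¹ * σ))⁻¹ * (α σ')⁻¹) =
      α σ' * (α (σ'⁻¹ * σ) * z) * (α (σ'⁻¹ * σ))⁻¹ * (α σ')⁻¹ by group, h.eq]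
    group
  have cj_eq : ∀ σ σ' : Perm (Fin (m + 1)), (∀ j : Fin (m + 1), (j : ℕ) < 3 → σ j = σ' j) →
      ∀ a, cj σ a = cj σ' a := fun σ σ' h a =>
    conj_eq σ σ' _ (hstab3 _ (fun j hj => by
      show σ'⁻¹ (σ j) = j
      rw [h j hj]; simp) a)
  have cj2_eq : ∀ σ σ' : Perm (Fin (m + 1)), σ (p 0) = σ' (p 0) → σ (p 1) = σ' (p 1) →
      ∀ a, cj2 σ a = cj2 σ' a := fun σ σ' h0 h1 a =>
    conj_eq σ σ' _ (hstab2 _ (by show σ'⁻¹ (σ (p 0)) = _; rw [h0]; simp)
      (by show σ'⁻¹ (σ (p 1)) = _; rw [h1]; simp) a)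
  have hex : ∀ i, ∃ σ : Perm (Fin (m + 1)), ∀ (h : i + 3 ≤ m + 1) (l : Fin 3),
      σ ⟨l, by omega⟩ = ⟨i + l, by omega⟩ := by
    intro i
    by_cases h : i + 3 ≤ m + 1
    · obtain ⟨σ, hσ⟩ := exists_win (n := m + 1) (k := 3) (by omega) i h
      exact ⟨σ, fun _ => hσ⟩
    · exact ⟨1, fun h' => absurd h' h⟩
  choose σw hσw using hex
  let ψ : ℕ → (Cfsg.SU 3 F 2 →* H) := fun i => cj (σw i)
  have ψ_eq : ∀ i (hi : i + 3 ≤ m + 1) (σ : Perm (Fin (m + 1))),
      (∀ l : Fin 3, (σ ⟨l, by omega⟩ : ℕ) = i + l) → ∀ a, ψ i a = cj σ a := fun i hi σ hσ =>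
    cj_eq _ _ fun j hj => Fin.ext (((congrArg Fin.val (hσw i hi ⟨j, hj⟩)).trans (hσ ⟨j, hj⟩).symm))
  have hRot : ∀ a, ψ0 (shift 1 2 3 (by omega) a) = cj2 (v4 (finRotate 4)) a := fun a => by
    rw [cj2_def, R4]
    show β _ = β _ * β _ * (β _)⁻¹
    rw [shift_comp, ← map_inv, ← map_mul, ← map_mul]
    congr 1
    refine (conj_shiftS hF (i := 0) _ _ _ (fun l => ?_) a).symm
    fin_cases l <;> rfl
  have hdis : ∀ (i k : ℕ), i + 2 ≤ m + 1 → k + 3 ≤ m + 1 → (i + 2 ≤ k ∨ k + 3 ≤ i) →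
      ∀ τ : Perm (Fin (m + 1)), (τ (p 0) : ℕ) = i → (τ (p 1) : ℕ) = i + 1 →
      ∀ a b, Commute (cj2 τ a) (ψ k b) := by
    intro i k hi hk hd τ t0 t1 a b
    have base : Commute (u0 a) (cj t2 b) := commute_two hx hy u0 (cj t2) (fun c d => by
      have := hcomE (X c) (cY t2 d) (by fin_cases c <;> fin_cases d <;> simp [E])
      rwa [hX, hcY] at this) a b
    obtain ⟨π, hπ⟩ := Alt.exists_send (fun l : Fin 5 => (⟨l, by omega⟩ : Fin (m + 1)))
      ![⟨i, by omega⟩, ⟨i + 1, by omega⟩, ⟨k, by omega⟩, ⟨k + 1, by omega⟩, ⟨k + 2, by omega⟩]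
      (fun a b h => Fin.ext (congrArg Fin.val h :))
      (fun a b h => by fin_cases a <;> fin_cases b <;> simp [Fin.ext_iff] at h ⊢ <;> omega)
    rw [cj2_eq τ π (Fin.ext (t0.trans (congrArg Fin.val (hπ 0)).symm))
      (Fin.ext (t1.trans (congrArg Fin.val (hπ 1)).symm)) a,
      ψ_eq k hk (π * t2) (fun l => by
        show (π (t2 ⟨l, by omega⟩) : ℕ) = k + l
        rw [ht2 l]
        have hl := hπ ⟨2 + (l : ℕ), by omega⟩
        refine (congrArg Fin.val hl).trans ?_
        fin_cases l <;> rfl) b]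
    have := base.map (MulAut.conj (α π)).toMonoidHom
    simp only [MulEquiv.coe_toMonoidHom, MulAut.conj_apply, cj_def, cj2_def] at this ⊢
    rwa [show α π * (α t2 * ψ0 b * (α t2)⁻¹) * (α π)⁻¹ = α (π * t2) * ψ0 b * (α (π * t2))⁻¹ by
      rw [map_mul]; group] at this
  obtain ⟨Φ, hΦ⟩ := Phan.GlueTwo.glue (G := H) hF (m + 1) (by omega) ψ (fun i hi => by
      obtain ⟨σ, hσ⟩ := exists_win (n := m + 1) (k := 4) (by omega) i hi
      refine ⟨(MulAut.conj (α σ)).toMonoidHom.comp β, fun a => ?_, fun a => ?_⟩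
      · exact (ψ_eq i (by omega) σ (fun l => congrArg Fin.val (hσ ⟨l, by omega⟩)) a).symm
      · rw [ψ_eq (i + 1) (by omega) (σ * v4 (finRotate 4)) (fun l => by
          show (σ (v4 _ (p ⟨l, by omega⟩)) : ℕ) = _
          rw [hv4]
          refine (congrArg Fin.val (hσ _)).trans ?_
          have hrot : (finRotate 4 (⟨l, by omega⟩ : Fin 4) : ℕ) = l + 1 := by fin_cases l <;> rfl
          show i + (finRotate 4 (⟨l, by omega⟩ : Fin 4) : ℕ) = _
          omega) a, cj_def, map_mul, R4]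
        show α σ * β (shift 1 3 4 _ a) * (α σ)⁻¹ = α σ * β _ * β _ * (α σ * β _)⁻¹
        rw [show shift 1 3 4 (by omega) a = pS hF 4 (finRotate 4) * shift 0 3 4 (by omega) a * (pS hF 4 (finRotate 4))⁻¹
          from (conj_shiftS hF (i := 0) _ _ _ (fun l => by fin_cases l <;> rfl) a).symm, map_mul, map_mul, map_inv]
        group) (by
      intro i k hik hk a b
      have e : ψ i (shift 0 2 3 (by omega) a) = cj2 (σw i) a := by
        show α _ * ψ0 _ * _ = _
        rw [hL3]; rfl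
      rw [e]
      exact (hdis i k (by omega) hk (Or.inl hik) (σw i) (congrArg Fin.val (hσw i (by omega) 0))
        (congrArg Fin.val (hσw i (by omega) 1)) a b).eq) (by
      intro i k hik hk a b
      have e : ψ k (shift 1 2 3 (by omega) b) = cj2 (σw k * v4 (finRotate 4)) b := by
        show α _ * ψ0 _ * _ = _
        rw [hRot, cj2_def, cj2_def, map_mul]
        group
      rw [e]
      exact ((hdis (k + 1) i (by omega) (by omega) (Or.inr (by omega)) _ (by
          show (σw k (v4 _ (p 0)) : ℕ) = _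
          rw [hv4]; exact congrArg Fin.val (hσw k hk 1)) (by
          show (σw k (v4 _ (p 1)) : ℕ) = _
          rw [hv4]; exact congrArg Fin.val (hσw k hk 2)) b a).symm).eq) (by
      intro i k hik hk a b
      have h6 : 6 ≤ m + 1 := by omega
      have base : Commute (ψ0 a) (cj t3 b) := commute_two hy hy ψ0 (cj t3) (fun c d => by
        have := hcomE (Y c) (cY t3 d) (by fin_cases c <;> fin_cases d <;> simp [E, h6])
        rwa [hY, hcY] at this) a b
      obtain ⟨π, hπ⟩ := Alt.exists_send (fun l : Fin 6 => (⟨l, by omega⟩ : Fin (m + 1)))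
        ![⟨i, by omega⟩, ⟨i + 1, by omega⟩, ⟨i + 2, by omega⟩, ⟨k, by omega⟩, ⟨k + 1, by omega⟩, ⟨k + 2, by omega⟩]
        (fun a b h => Fin.ext (congrArg Fin.val h :))
        (fun a b h => by fin_cases a <;> fin_cases b <;> simp [Fin.ext_iff] at h ⊢ <;> omega)
      rw [ψ_eq i (by omega) π (fun l => (congrArg Fin.val (hπ ⟨l, by omega⟩)).trans (by fin_cases l <;> rfl)) a,
        ψ_eq k hk (π * t3) (fun l => by
          show (π (t3 ⟨l, by omega⟩) : ℕ) = k + l
          rw [ht3 h6 l]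
          refine (congrArg Fin.val (hπ ⟨3 + (l : ℕ), by omega⟩)).trans ?_
          fin_cases l <;> rfl) b]
      have := base.map (MulAut.conj (α π)).toMonoidHom
      simp only [MulEquiv.coe_toMonoidHom, MulAut.conj_apply, cj_def] at this ⊢
      rw [show α π * (α t3 * ψ0 b * (α t3)⁻¹) * (α π)⁻¹ = α (π * t3) * ψ0 b * (α (π * t3))⁻¹ by
        rw [map_mul]; group] at this
      exact this.eq)
  refine ⟨Φ, ?_, ?_⟩
  · have htop : Subgroup.closure (Set.range fun j : Fin m => swap j.castSucc j.succ) = ⊤ := by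
      rw [eq_top_iff]
      intro g _
      exact Submonoid.closure_le (S := (Subgroup.closure (Set.range fun j : Fin m => swap j.castSucc j.succ)).toSubmonoid)
        |>.2 Subgroup.subset_closure ((Perm.mclosure_swap_castSucc_succ m).symm ▸ Submonoid.mem_top g)
    refine MonoidHom.eq_of_eqOn_dense htop ?_
    rintro _ ⟨j, rfl⟩
    obtain ⟨i, l, hil, hl, hi⟩ : ∃ i l : ℕ, i + l = j ∧ l < 2 ∧ i + 3 ≤ m + 1 := by
      by_cases h : (j : ℕ) + 3 ≤ m + 1
      · exact ⟨j, 0, rfl, by norm_num, h⟩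
      · exact ⟨j - 1, 1, by omega, by norm_num, by omega⟩
    let z : Perm (Fin 4) := swap ⟨l, by omega⟩ ⟨l + 1, by omega⟩
    let z' : Perm (Fin 3) := swap ⟨l, by omega⟩ ⟨l + 1, by omega⟩
    have hz : pS hF 4 z = shift 0 3 4 (by omega) (pS hF 3 z') := by
      refine pS_window hF (by omega) z z' (fun a => ?_) (fun a ha => ?_)
      · simp only [z, z', swap_apply_def, Fin.ext_iff]
        split_ifs <;> simp
      · exact swap_apply_of_ne_of_ne (by simp [Fin.ext_iff]; omega) (by simp [Fin.ext_iff]; omega)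
    set σ := σw i with hσdef
    have hσ : ∀ a : Fin 3, σ ⟨a, by omega⟩ = ⟨i + a, by omega⟩ := hσw i hi
    have hswap : swap j.castSucc j.succ = σ * v4 z * σ⁻¹ := by
      refine mul_inv_eq_iff_eq_mul.2 ?_ |>.symm
      refine Equiv.ext fun a => ?_
      have hv : v4 z = swap (p ⟨l, by omega⟩) (p ⟨l + 1, by omega⟩) := by
        refine Equiv.ext fun c => ?_
        by_cases hc : (c : ℕ) < 4
        · obtain ⟨d, rfl⟩ : ∃ d, p d = c := ⟨⟨c, hc⟩, Fin.ext rfl⟩
          rw [hv4]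
          exact e4.injective.map_swap _ _ _
        · rw [hv4out z c (by omega), swap_apply_of_ne_of_ne] <;>
          · intro e
            have := congrArg Fin.val e
            simp [p] at this
            omega
      rw [hv, Perm.mul_apply, Perm.mul_apply, σ.injective.map_swap]
      congr 2
      · exact (hσ ⟨l, by omega⟩).trans (Fin.ext (by simp; omega))
      · exact (hσ ⟨l + 1, by omega⟩).trans (Fin.ext (by simp; omega))
    show Φ (iA (swap j.castSucc j.succ)) = α (swap j.castSucc j.succ)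
    rw [hswap, map_mul iA, map_mul iA, map_inv iA, hP4, hz]
    show Φ (pS hF (m + 1) σ * shift 0 4 (m + 1) _ (shift 0 3 4 _ (pS hF 3 z')) * (pS hF (m + 1) σ)⁻¹) = _
    rw [shift_comp, conj_shiftS hF (i := 0 + 0) _ hi σ (fun a => by simpa using hσ a), hΦ, map_mul α, map_mul α,
      map_inv α, R4, hz]
    rfl
  · refine Phan.GlueTwo.hom_ext hF (by omega) fun l hl a => ?_
    show Φ (shift 0 4 (m + 1) _ (shift l 3 4 hl a)) = β (shift l 3 4 hl a)
    rw [shift_comp, hΦ]
    rcases (show l = 0 ∨ l = 1 by omega) with rfl | rfl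
    · rw [ψ_eq (0 + 0) (by omega) 1 (fun l => by simp) a, cj_def, map_one, one_mul, inv_one, mul_one]
      rfl
    · rw [ψ_eq (0 + 1) (by omega) (v4 (finRotate 4)) (fun l => by
        show (v4 _ (p ⟨l, by omega⟩) : ℕ) = _
        rw [hv4]
        show (finRotate 4 (⟨l, by omega⟩ : Fin 4) : ℕ) = _
        fin_cases l <;> rfl) a, cj_def, R4]
      show β _ * β _ * (β _)⁻¹ = _
      rw [← map_inv, ← map_mul, ← map_mul]
      congr 1
      exact conj_shiftS hF (i := 0) _ _ _ (fun l => by fin_cases l <;> rfl) a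

end Cfsg.Agent.ShortPres.SUGlue
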