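import Cfsg.Agent.Lib.ShortPres.SUGlue.Four
import Cfsg.Agent.Lib.ShortPres.SUGlue.MidThree
import Cfsg.Agent.Lib.ShortPres.SUGlue.MidTwo
import Cfsg.Agent.Lib.ShortPres.SUGlue.SmallFour
import Cfsg.Agent.SimpleFacts.SUMult.Main
import Cfsg.Agent.Lib.ShortPres.SU3.Final

/-!
# Short presentations of `SU_n(q)` and `PSU_n(q)`, `n ≥ 4`
-/

set_option autoImplicit false
set_option linter.unusedSectionVars false

namespace Cfsg.Agent.ShortPres.SUGlue

open Cfsg.Agent.ShortPres.Bound

universe u

variable {F : Type u} [Field F] [Fintype F] {q n : ℕ} (hF : Fintype.card F = q ^ 2)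

include hF

theorem two_le_q : 2 ≤ q := by
  have h := Fintype.one_lt_card (α := F)
  rw [hF] at h
  by_contra hc
  interval_cases q <;> simp at h

/-- Six generators. -/
theorem pres_six (hn : 4 ≤ n) : ∃ k, k ≤ 39 ∧ (n ≤ 5 → k ≤ 35) ∧ PresN (Cfsg.SU n F q) 6 k := by
  have pad : ∀ {a k : ℕ}, PresN (Cfsg.SU n F q) a k → a ≤ 6 → k + (6 - a) ≤ 39 → (n ≤ 5 → k + (6 - a) ≤ 35) →
      ∃ k, k ≤ 39 ∧ (n ≤ 5 → k ≤ 35) ∧ PresN (Cfsg.SU n F q) 6 k := fun {a k} h ha h1 h2 => by
    have := h.pads (6 - a)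
    rw [Nat.add_sub_cancel' ha] at this
    exact ⟨_, h1, h2, this⟩
  have hq := two_le_q hF
  rcases (show n = 4 ∨ n = 5 ∨ 6 ≤ n by omega) with rfl | rfl | h6
  · by_cases h3 : 3 < q
    · exact pad (pres_four hF h3) (by norm_num) (by norm_num) (fun _ => by norm_num)
    · have h := SmallFour.exists_presN hF (show q = 2 ∨ q = 3 by omega)
      exact pad h (by norm_num) (by split_ifs <;> norm_num) (fun _ => by split_ifs <;> norm_num)
  · obtain ⟨f, hf, -⟩ := Joint.on_five
    obtain ⟨S, hl, hS⟩ := Joint.gens_five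
    by_cases h3 : 3 < q
    · exact pad (pres_large hF h3 (le_refl 5) hf S hS) (by norm_num) (by simp [hl]) (fun _ => by simp [hl])
    rcases (show q = 2 ∨ q = 3 by omega) with rfl | rfl
    · exact pad (pres_two hF (le_refl 5) (SmallFour.exists_presN hF (Or.inl rfl))) (by norm_num) (by simp)
        (fun _ => by simp)
    · exact pad (pres_block hF (by norm_num) (le_refl 5) (SmallFour.exists_presN hF (Or.inr rfl)) hf S hS)
        (by norm_num) (by simp [hl]) (fun _ => by simp [hl])
  · obtain ⟨f, hf, -⟩ := Joint.on_big h6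
    obtain ⟨S, hl, hS⟩ := Joint.gens_big (n := n) (by omega)
    by_cases h3 : 3 < q
    · exact pad (pres_large hF h3 (by omega) hf S hS) (by norm_num) (by simp [hl, h6]) (fun h => by omega)
    rcases (show q = 2 ∨ q = 3 by omega) with rfl | rfl
    · exact pad (pres_two hF (by omega) (SmallFour.exists_presN hF (Or.inl rfl))) (by norm_num)
        (by simp [h6]) (fun h => by omega)
    · exact pad (pres_block hF (by norm_num) (by omega) (SmallFour.exists_presN hF (Or.inr rfl)) hf S hS)
        (by norm_num) (by simp [hl]) (fun h => by omega)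

/-- The projective groups. -/
theorem pres_psu (hn : 4 ≤ n) {k : ℕ} (h : PresN (Cfsg.SU n F q) 6 k) : PresN (Cfsg.PSU n F q) 6 (k + 1) :=
  h.mod_center (SimpleFacts.SUMult.Main.center_cyclic hF n (by omega))

end Cfsg.Agent.ShortPres.SUGlue
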