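import Cfsg.Agent.Lib.ShortPres.SUGlue.Large

/-!
# `SU₃(q)` and a monomial element give `SU₄(q)` with few relations, `q ≥ 4`
-/

set_option autoImplicit false
set_option linter.unusedSectionVars false

namespace Cfsg.Agent.ShortPres.SUGlue

open Monoid Matrix Cfsg.Agent.ShortPres.Bound Cfsg.Agent.Forms Cfsg.Agent.Classical
  Cfsg.Agent.Classical.Unitary Cfsg.Agent.Phan.Shift Cfsg.Agent.Phan.Glue

universe u

variable {F : Type u} [Field F] [Fintype F] {q : ℕ} (hF : Fintype.card F = q ^ 2)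

include hF

/-- A monomial element carrying the first three coordinates onto the last three. -/
theorem exists_turn : ∃ x : Cfsg.SU 4 F q, ∀ (g : Cfsg.SU 3 F q),
    shift 1 3 4 (by omega) g = x * shift 0 3 4 (by omega) g * x⁻¹ := by
  let M : Matrix (Fin 4) (Fin 4) F := !![0, 0, 0, -1; 1, 0, 0, 0; 0, 1, 0, 0; 0, 0, 1, 0]
  have hMv : ∀ x : Fin 4 → F, M *ᵥ x = ![-x 3, x 0, x 1, x 2] := fun x => by
    funext j
    fin_cases j <;> simp [M, Matrix.mulVec, dotProduct, Fin.sum_univ_four]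
  have hneg : ∀ a : F, (-a) ^ q = -a ^ q := fun a => by
    rw [← HermStd.qHom_apply hF, map_neg, HermStd.qHom_apply hF]
  refine ⟨suMk M ?_ ?_, fun g => ?_⟩
  · simp [M, Matrix.det_succ_row_zero, Fin.sum_univ_succ, Fin.succAbove]
    ring
  · intro u v
    rw [hMv, hMv]
    simp only [Cfsg.hermForm, Fin.sum_univ_four]
    simp [hneg]
    ring
  · rw [eq_mul_inv_iff_mul_eq]
    refine SU_ext fun x => funext fun j => ?_
    rw [mul_mulVec, mul_mulVec, suMk_mulVec, suMk_mulVec, hMv, hMv, shift_apply]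
    have e : (fun l : Fin 3 => ![-x 3, x 0, x 1, x 2] ⟨1 + l, by omega⟩) = fun l : Fin 3 => x ⟨l, by omega⟩ := by
      funext l; fin_cases l <;> rfl
    fin_cases j <;> simp [shift_apply, e]

variable (hq : 3 < q)

include hq

/-- The count. -/
theorem pres_four : PresN (Cfsg.SU 4 F q) (3 + 1) (21 + 6 + 1) := by
  classical
  obtain ⟨x, hx⟩ := two_gen_two hF
  obtain ⟨t, ht⟩ := exists_turn hF
  let iA : Cfsg.SU 3 F q →* Cfsg.SU 4 F q := shift 0 3 4 (by omega)
  let iB : Cfsg.SU 3 F q →* Cfsg.SU 4 F q := shift 1 3 4 (by omega)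
  let a0 : Fin 2 → Cfsg.SU 3 F q := fun i => shift 0 2 3 (by omega) (x i)
  let a1 : Fin 2 → Cfsg.SU 3 F q := fun i => shift 1 2 3 (by omega) (x i)
  let jA : Cfsg.SU 3 F q →* Coprod (Cfsg.SU 3 F q) (Cfsg.SU 3 F q) := Coprod.inl
  let jB : Cfsg.SU 3 F q →* Coprod (Cfsg.SU 3 F q) (Cfsg.SU 3 F q) := Coprod.inr
  let com := fun (a b : Coprod (Cfsg.SU 3 F q) (Cfsg.SU 3 F q)) => a * b * a⁻¹ * b⁻¹
  let E := List.ofFn (fun i : Fin 2 => jA (a1 i) * (jB (a0 i))⁻¹) ++
    List.ofFn (fun i : Fin 2 => com (jA (a0 0)) (jB (a1 i))) ++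
    List.ofFn (fun i : Fin 2 => com (jA (a0 1)) (jB (a1 i)))
  refine (PresN.conjugate (SU3.presN hF (by omega)) iA iB t (MonoidHom.id _) ht ?_ E ?_ ?_).mono (by simp [E])
  · refine windows_top hF (by omega) (by omega) _ fun j hj => ?_
    rintro _ ⟨b, rfl⟩
    rcases (show j = 0 ∨ j = 1 ∨ j = 2 by omega) with rfl | rfl | rfl
    · exact Subgroup.mem_sup_left ⟨shift 0 2 3 (by omega) b, by simp only [iA, shift_comp]⟩
    · exact Subgroup.mem_sup_left ⟨shift 1 2 3 (by omega) b, by simp only [iA, shift_comp]⟩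
    · exact Subgroup.mem_sup_right ⟨shift 1 2 3 (by omega) b, by simp only [iB, shift_comp]⟩
  · intro e he
    simp only [E, List.mem_append, List.mem_ofFn] at he
    rcases he with (⟨i, rfl⟩ | ⟨i, rfl⟩) | ⟨i, rfl⟩
    · simp only [jA, jB, map_mul, map_inv, Coprod.lift_apply_inl, Coprod.lift_apply_inr, iA, iB, a0, a1,
        shift_comp]
      exact mul_inv_cancel _
    all_goals
      simp only [com, jA, jB, map_mul, map_inv, Coprod.lift_apply_inl, Coprod.lift_apply_inr, iA, iB, a0, a1,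
        shift_comp]
      rw [mul_inv_eq_one, mul_inv_eq_iff_eq_mul]
      exact shift_commute _ _ (by omega) _ _
  intro H _ α β hE
  have ext2 : ∀ f g : Cfsg.SU 2 F q →* H, (∀ i, f (x i) = g (x i)) → f = g := fun f g h =>
    MonoidHom.eq_of_eqOn_top fun y _ => by
      have := Subgroup.closure_le (f.eqLocus g) |>.2 (Set.range_subset_iff.2 h)
      exact this (hx ▸ Subgroup.mem_top y)
  have hmid : α.comp (shift 1 2 3 (by omega)) = β.comp (shift 0 2 3 (by omega)) := ext2 _ _ fun i => by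
    have := hE _ (List.mem_append_left _ (List.mem_append_left _ (List.mem_ofFn.2 ⟨i, rfl⟩)))
    simpa [jA, jB, mul_inv_eq_one] using this
  have hcom : ∀ a b, Commute (α (shift 0 2 3 (by omega) a)) (β (shift 1 2 3 (by omega) b)) := by
    refine commute_gens x hx (α.comp _) (β.comp _) fun a b => ?_
    have := hE (com (jA (a0 a)) (jB (a1 b))) (by
      fin_cases a
      · exact List.mem_append_left _ (List.mem_append_right _ (List.mem_ofFn.2 ⟨b, rfl⟩))
      · exact List.mem_append_right _ (List.mem_ofFn.2 ⟨b, rfl⟩))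
    simp only [com, jA, jB, map_mul, map_inv, Coprod.lift_apply_inl, Coprod.lift_apply_inr] at this
    exact mul_inv_eq_iff_eq_mul.1 (mul_inv_eq_one.1 this)
  let uw : ℕ → (Cfsg.SU 2 F q →* H) := fun i =>
    if i = 0 then α.comp (shift 0 2 3 (by omega)) else if i = 1 then β.comp (shift 0 2 3 (by omega))
      else β.comp (shift 1 2 3 (by omega))
  obtain ⟨Φ, hΦ⟩ := glue (G := H) hF (by omega) hq 3 (by omega) uw (fun i hi => by
      rcases (show i = 0 ∨ i = 1 by omega) with rfl | rfl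
      · exact ⟨α, fun a => rfl, fun a => DFunLike.congr_fun hmid a⟩
      · exact ⟨β, fun a => rfl, fun a => rfl⟩) (fun i j hij hj a b => by
      obtain ⟨rfl, rfl⟩ : i = 0 ∧ j = 2 := by omega
      exact (hcom a b).eq)
  refine ⟨Φ, ?_, ?_⟩
  · refine hom_ext hF (by omega) (by omega) fun l hl b => ?_
    rw [MonoidHom.comp_apply]
    simp only [iA, shift_comp]
    rw [hΦ]
    rcases (show l = 0 ∨ l = 1 by omega) with rfl | rfl
    · rfl
    · exact (DFunLike.congr_fun hmid b).symm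
  · refine hom_ext hF (by omega) (by omega) fun l hl b => ?_
    rw [MonoidHom.comp_apply]
    simp only [iB, shift_comp]
    rw [hΦ]
    rcases (show l = 0 ∨ l = 1 by omega) with rfl | rfl <;> rfl

end Cfsg.Agent.ShortPres.SUGlue
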